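import Groth.Agent.L28.RegCurve.Open
import Groth.Agent.L28.DimFun.Main
import Groth.Agent.L28.ExtShriek.IndConstr
import Groth.Agent.L28.DivGen.Regular
import Groth.Agent.L28.EtTrace.Galois
import Groth.Agent.L28.AffLef.Prime
import Groth.Agent.S3241

/-! # Cohomological dimension of a regular curve of characteristic zero -/

set_option autoImplicit false
set_option linter.style.haveILetI false
set_option linter.unusedSectionVars false
set_option backward.isDefEq.respectTransparency.types false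

universe u

open CategoryTheory CategoryTheory.Limits AlgebraicGeometry Opposite IsLocalRing

noncomputable section

namespace Groth.L28.RegCurve

open Groth.L27 Groth.L27.LimCoh

variable {U : Scheme.{u}}

theorem coheight_le (hdim : ∀ x : U, ringKrullDim (U.presheaf.stalk x) ≤ 1) (x : U) : Order.coheight x ≤ 1 :=
  WithBot.coe_le_coe.1 ((ringKrullDim_stalk_eq_coheight x).symm.trans_le (hdim x))

variable [IsIntegral U]

theorem eq_genericPoint_of_specializes (hdim : ∀ x : U, ringKrullDim (U.presheaf.stalk x) ≤ 1) {x y : U}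
    (hxy : x ⤳ y) (hne : x ≠ y) : x = genericPoint U := by
  by_contra hx
  have hgx : genericPoint U ⤳ x := genericPoint_specializes x
  have h1 : x < genericPoint U := lt_iff_le_not_ge.2 ⟨hgx, fun h' => hx (hgx.antisymm h').eq.symm⟩
  have h2 : y < x := lt_iff_le_not_ge.2 ⟨hxy, fun h' => hne (hxy.antisymm h').eq⟩
  have h3 : (1 : ℕ∞) ≤ Order.coheight x := le_trans le_add_self (Order.coheight_add_one_le h1)
  have h4 : (1 + 1 : ℕ∞) ≤ 1 :=
    ((add_le_add_left h3 1).trans (Order.coheight_add_one_le h2)).trans (coheight_le hdim y)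
  exact absurd h4 (by decide)

theorem isClosed_of_ne_genericPoint (hdim : ∀ x : U, ringKrullDim (U.presheaf.stalk x) ≤ 1) {x : U}
    (hx : x ≠ genericPoint U) : IsClosed ({x} : Set U) :=
  closure_subset_iff_isClosed.1 fun y hy => by
    by_contra hne
    exact hx (eq_genericPoint_of_specializes hdim (specializes_iff_mem_closure.2 hy) (Ne.symm hne))

set_option maxHeartbeats 1000000 in
theorem cdLE_three [AlgebraicGeometry.IsNoetherian U] (hreg : ∀ x : U, IsRegularLocalRing (U.presheaf.stalk x))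
    (hdim : ∀ x : U, ringKrullDim (U.presheaf.stalk x) ≤ 1) {ℓ : ℕ} (hℓ : ℓ.Prime) (hu : IsUnit (ℓ : Γ(U, ⊤)))
    (hη : EtCoh.CohDimLE (Spec (U.residueField (genericPoint U))) 2)
    (hv : ∀ x : U, IsClosed ({x} : Set U) → EtCoh.CohDimLE (Spec (U.residueField x)) 1) :
    FieldTower.CdLE ℓ U 3 := by
  classical
  refine (FieldTower.cohDimLEAt_iff hℓ).1 fun F hF q hq => DimFun.subsingleton_H_of_dimFun
    (fun x => if x = genericPoint U then 3 else 1) hℓ (fun x => ?_) (fun x y hxy hne R _ _ _ _ hS P hP => ?_)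
    F hF q fun x _ => ?_
  · refine (FieldTower.cohDimLEAt_iff hℓ).2 fun G hG r hr => ?_
    by_cases hx : x = genericPoint U
    · subst hx
      rw [if_pos rfl] at hr
      exact AffLef.cdLE_of_cohDimLE hη ℓ G hG r (by omega)
    · rw [if_neg hx] at hr
      exact AffLef.cdLE_of_cohDimLE (hv x (isClosed_of_ne_genericPoint hdim hx)) ℓ G hG r hr
  · obtain rfl := eq_genericPoint_of_specializes hdim hxy hne
    rw [if_pos rfl, if_neg hne.symm]
    refine ⟨1, le_rfl, (FieldTower.cohDimLEAt_iff hℓ).2 ?_⟩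
    have h1 : ringKrullDim (U.presheaf.stalk y) = 1 := by
      rw [ringKrullDim_stalk_eq_coheight]
      have hlt : y < genericPoint U := lt_iff_le_not_ge.2 ⟨hxy, fun h' => hne (hxy.antisymm h').eq⟩
      have hc : Order.coheight y = 1 := le_antisymm (coheight_le hdim y)
        (le_trans le_add_self (Order.coheight_add_one_le hlt))
      rw [hc]
      rfl
    haveI := hreg y
    obtain ⟨_, hD⟩ := exists_dvr (U.presheaf.stalk y) h1
    haveI := hD
    obtain ⟨_, hDR⟩ := CdLower.exists_dvr_strict (U.presheaf.stalk y) R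
    haveI := hDR
    have hker : RingHom.ker (Cyc.specMap y (genericPoint U) hxy) = ⊥ := by
      by_contra hne'
      have hmax : (RingHom.ker (Cyc.specMap y (genericPoint U) hxy)).IsMaximal :=
        Ideal.IsPrime.isMaximal inferInstance hne'
      have he : (⟨RingHom.ker (Cyc.specMap y (genericPoint U) hxy), inferInstance⟩ :
          PrimeSpectrum (U.presheaf.stalk y)) = closedPoint (U.presheaf.stalk y) :=
        PrimeSpectrum.ext (IsLocalRing.eq_maximalIdeal hmax)
      have := DimFun.fromSpecStalk_ker (genericPoint U) y hxy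
      rw [he, Scheme.fromSpecStalk_closedPoint] at this
      exact hne this.symm
    have hP0 : P = ⊥ := by
      rw [hker, Ideal.map_bot] at hP
      exact le_antisymm (hP.2 ⟨Ideal.isPrime_bot, le_rfl⟩ bot_le) bot_le
    subst hP0
    have hu' : IsUnit (ℓ : R) := by
      simpa using (hu.map (U.presheaf.germ ⊤ y trivial).hom).map (algebraMap (U.presheaf.stalk y) R)
    let e : FractionRing R ≃+* FractionRing (R ⧸ (⊥ : Ideal R)) :=
      IsFractionRing.ringEquivOfRingEquiv (RingEquiv.quotientBot R).symm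
    exact (CdLower.cdLE_one_strict hℓ R ⟨hS.henselian, hS.isSepClosure.sep_closed⟩ hu').of_integral
      (Spec.map e.toCommRingCatIso.hom)
  · show (if x = genericPoint U then 3 else 1) < q
    split <;> omega

theorem cohDimLE_three [AlgebraicGeometry.IsNoetherian U] (hreg : ∀ x : U, IsRegularLocalRing (U.presheaf.stalk x))
    (hdim : ∀ x : U, ringKrullDim (U.presheaf.stalk x) ≤ 1) (hu : ∀ n : ℕ, n ≠ 0 → IsUnit (n : Γ(U, ⊤)))
    (hη : EtCoh.CohDimLE (Spec (U.residueField (genericPoint U))) 2)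
    (hv : ∀ x : U, IsClosed ({x} : Set U) → EtCoh.CohDimLE (Spec (U.residueField x)) 1) : EtCoh.CohDimLE U 3 :=
  AffLef.cohDimLE_of_primes fun ℓ hℓ => cdLE_three hreg hdim hℓ (hu ℓ hℓ.ne_zero) hη hv

omit [IsIntegral U] in
/-- Kummer theory kills torsion cohomology of the multiplicative group. -/
theorem subsingleton_H_Gm [AlgebraicGeometry.IsNoetherian U] (hreg : ∀ x : U, IsRegularLocalRing (U.presheaf.stalk x))
    (hu : ∀ n : ℕ, n ≠ 0 → IsUnit (n : Γ(U, ⊤))) {d : ℕ} (hd : EtCoh.CohDimLE U d) (r : ℕ) (hr : d < r) (h2 : 2 ≤ r) :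
    Subsingleton (EtCoh.H U (EtCoh.Gm U) r) := by
  refine subsingleton_of_forall_eq 0 fun z => ?_
  obtain ⟨n, hn, hz⟩ := isOfFinAddOrder_iff_nsmul_eq_zero.1
    (Groth.Agent.S3241.result U (DivGen.fact_of_regular U hreg) r h2 z)
  have hS : (EtSix.kummerSC U n).ShortExact := EtSix.kummerShortExact (GmTorsion.epi_powMap (hu n hn.ne'))
  have h0 : z.comp (Abelian.Ext.mk₀ (EtSix.kummerSC U n).g) (add_zero r) = 0 := by
    show z.comp (Abelian.Ext.mk₀ (n • 𝟙 (EtCoh.Gm U))) (add_zero r) = 0
    rw [EtTrace.comp_mk₀_nsmul, hz]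
  obtain ⟨w, hw⟩ := Abelian.Ext.covariant_sequence_exact₂ _ hS z h0
  have hμ : EtCoh.IsTorsion (EtCoh.mu U n) := AffineEfface.isTorsion_of_isLTorsion (L := {p | p.Prime})
    (DerBC.Killed.isLTorsion ⟨n, ⟨hn, fun p hp _ => hp⟩, CdLower.nsmul_id_mu U n⟩)
  have hsub : Subsingleton (EtCoh.H U (EtCoh.mu U n) r) := hd _ hμ r hr
  rw [← hw, @Subsingleton.elim _ hsub w 0]
  exact Abelian.Ext.zero_comp _ _ _ _ _

end Groth.L28.RegCurve
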