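import Groth.Agent.L28.CdLower.DvrBase
import Groth.Agent.L28.CurveCd.Main
import Groth.Agent.L03.RegularNormal
import Groth.Agent.L01.Regular
import Groth.Agent.S4165
import Groth.Agent.S3104
import Groth.Agent.S6658
import Groth.Agent.S3364

/-! # Open immersions into regular curves -/

set_option autoImplicit false
set_option linter.style.haveILetI false
set_option linter.unusedSectionVars false
set_option backward.isDefEq.respectTransparency.types false

universe u

open CategoryTheory CategoryTheory.Limits AlgebraicGeometry Opposite IsLocalRing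

noncomputable section

namespace Groth.L28.RegCurve

open Groth.L27

/-- A regular local ring of dimension one is a discrete valuation ring. -/
theorem exists_dvr (O : Type u) [CommRing O] [IsRegularLocalRing O] (h : ringKrullDim O = 1) :
    ∃ _ : IsDomain O, IsDiscreteValuationRing O := by
  haveI : IsDomain O := Groth.L01.isDomain_of_regular O
  have hnf : ¬ IsField O := fun hF => by
    rw [ringKrullDim_eq_zero_of_isField hF] at h
    exact zero_ne_one h
  have hs : (maximalIdeal O).spanFinrank = 1 := by
    have := (isRegularLocalRing_iff O).mp inferInstance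
    rw [h] at this
    exact_mod_cast this
  have hp : (maximalIdeal O).IsPrincipal := by
    have hc : (maximalIdeal O).generators.ncard = 1 :=
      (Submodule.FG.generators_ncard (Ideal.fg_of_isNoetherianRing (maximalIdeal O))).trans hs
    obtain ⟨a, ha⟩ := Set.ncard_eq_one.1 hc
    exact ⟨a, by rw [← ha, Submodule.span_generators]⟩
  exact ⟨inferInstance, ((IsDiscreteValuationRing.TFAE O hnf).out 0 4 rfl rfl).mpr hp⟩

theorem isNormalScheme {X : Scheme.{u}} (hreg : ∀ x : X, IsRegularLocalRing (X.presheaf.stalk x)) :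
    Pi1.IsNormalScheme X := fun x => by
  haveI := hreg x
  exact ⟨Groth.L01.isDomain_of_regular _, Groth.L03.RegularNormal.isIntegrallyClosed _⟩

variable {X U : Scheme.{u}} (j : U ⟶ X) [IsOpenImmersion j]

/-- The generic point above a point outside the open subscheme lies in it. -/
theorem fromSpecStalk_mem (hdim : ∀ x : X, ringKrullDim (X.presheaf.stalk x) ≤ 1)
    (hY1 : ∀ x : X, x ∉ Set.range j.base → ringKrullDim (X.presheaf.stalk x) = 1) {y : X}
    (q : Spec (X.presheaf.stalk y)) (hq : q ≠ closedPoint (X.presheaf.stalk y)) :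
    X.fromSpecStalk y q ∈ Set.range j.base := by
  by_contra hη
  let η := X.fromSpecStalk y q
  have h1 : (Order.coheight η : WithBot ℕ∞) = 1 := (ringKrullDim_stalk_eq_coheight η).symm.trans (hY1 η hη)
  have h2 : (Order.coheight y : WithBot ℕ∞) ≤ 1 := (ringKrullDim_stalk_eq_coheight y).symm.trans_le (hdim y)
  have hs : η ⤳ y := by
    have : η ∈ Set.range (X.fromSpecStalk y) := ⟨q, rfl⟩
    rwa [Scheme.range_fromSpecStalk] at this
  have hne : η ≠ y := fun e => hq ((X.fromSpecStalk y).isEmbedding.injective (e.trans Scheme.fromSpecStalk_closedPoint.symm))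
  have hlt : y < η := lt_iff_le_not_ge.2 ⟨hs, fun h' => hne (hs.antisymm h').eq⟩
  have h3 : (Order.coheight η + 1 : ℕ∞) ≤ Order.coheight y := Order.coheight_add_one_le hlt
  rw [show Order.coheight η = 1 from WithBot.coe_inj.1 h1] at h3
  have h4 : (1 + 1 : ℕ∞) ≤ 1 := h3.trans (WithBot.coe_le_coe.1 h2)
  exact absurd h4 (by decide)

theorem dense_range (hreg : ∀ x : X, IsRegularLocalRing (X.presheaf.stalk x))
    (hdim : ∀ x : X, ringKrullDim (X.presheaf.stalk x) ≤ 1)
    (hY1 : ∀ x : X, x ∉ Set.range j.base → ringKrullDim (X.presheaf.stalk x) = 1) : Dense (Set.range j) := fun x => by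
  by_cases hx : x ∈ Set.range j.base
  · exact subset_closure hx
  · haveI := hreg x
    obtain ⟨_, hD⟩ := exists_dvr (X.presheaf.stalk x) (hY1 x hx)
    let q : Spec (X.presheaf.stalk x) := (⟨⊥, Ideal.isPrime_bot⟩ : PrimeSpectrum (X.presheaf.stalk x))
    have hq : q ≠ closedPoint (X.presheaf.stalk x) := fun e =>
      IsDiscreteValuationRing.not_a_field (X.presheaf.stalk x) (congrArg PrimeSpectrum.asIdeal e).symm
    have hs : X.fromSpecStalk x q ⤳ x := by
      have : X.fromSpecStalk x q ∈ Set.range (X.fromSpecStalk x) := ⟨q, rfl⟩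
      rwa [Scheme.range_fromSpecStalk] at this
    exact closure_mono (Set.singleton_subset_iff.2 (fromSpecStalk_mem j hdim hY1 q hq))
      (specializes_iff_mem_closure.1 hs)

/-- No higher cohomology on strictly local schemes. -/
theorem subsingleton_H_strictLocal (R : Type u) [CommRing R] [IsLocalRing R]
    (hR : EtCoh.IsStrictlyHenselianLocalRing R) (F : EtCoh.Ab (Spec (CommRingCat.of R))) (q : ℕ) (hq : 0 < q) :
    Subsingleton (EtCoh.H (Spec (CommRingCat.of R)) F q) := by
  obtain ⟨hh, hs⟩ := hR
  haveI := hh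
  haveI := hs
  haveI := EtSite.preservesFiniteLimits_pull (Spec.map (CommRingCat.ofHom (residue R)))
  obtain ⟨i, rfl⟩ : ∃ i, q = i + 1 := ⟨q - 1, by omega⟩
  haveI := CurveCd.subsingleton_H_sepClosed (ResidueField R)
    ((EtCoh.pull (Spec.map (CommRingCat.ofHom (residue R)))).obj F) i
  exact (HenselClosed.bijective_Hpull_closedPoint R F (i + 1)).1.subsingleton

set_option maxHeartbeats 1000000 in
/-- The higher direct images above one vanish. -/
theorem isZero_Rpush [QuasiCompact j] (hreg : ∀ x : X, IsRegularLocalRing (X.presheaf.stalk x))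
    (hdim : ∀ x : X, ringKrullDim (X.presheaf.stalk x) ≤ 1)
    (hY1 : ∀ x : X, x ∉ Set.range j.base → ringKrullDim (X.presheaf.stalk x) = 1)
    {n : ℕ} [NeZero n] (hn : IsUnit (n : Γ(X, ⊤))) (G : EtCoh.Ab U) (hG : n • 𝟙 G = 0) (q : ℕ) (hq : 2 ≤ q) :
    IsZero ((EtCoh.Rpush j q).obj G) := by
  refine (EtSite.isZero_iff_stalks _).2 fun Ω _ _ ξ => ?_
  let y := ξ.base default
  obtain ⟨R, _, _, _, _, hS⟩ := L05.Henselization.exists_isStrictHenselization (X.presheaf.stalk y)
  haveI : IsSepClosed (IsLocalRing.ResidueField R) := hS.isSepClosure.sep_closed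
  have hR : EtCoh.IsStrictlyHenselianLocalRing R := ⟨hS.henselian, hS.isSepClosure.sep_closed⟩
  obtain ⟨e⟩ := StalkRpush.nonempty_natIso j y R q
  refine DimFun.isZero_stalk_of_base (Hens2.geomPt X y R) ξ (PBC.geomPt_default _ _ R).symm ?_
  refine IsZero.of_iso (@AddCommGrpCat.isZero_of_subsingleton _ ?_) (e.app G)
  let Z := pullback j (Hens2.specOf X y R)
  let s : Z ⟶ Spec (CommRingCat.of R) := pullback.snd j (Hens2.specOf X y R)
  haveI : IsOpenImmersion s := inferInstance
  haveI := EtSite.preservesFiniteLimits_pull (pullback.fst j (Hens2.specOf X y R))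
  let F : EtCoh.Ab Z := (EtCoh.pull (pullback.fst j (Hens2.specOf X y R))).obj G
  haveI : (EtCoh.pull (pullback.fst j (Hens2.specOf X y R))).Additive :=
    Functor.additive_of_preserves_binary_products _
  have hF : n • 𝟙 F = 0 := by
    show n • 𝟙 ((EtCoh.pull _).obj G) = 0
    rw [← CategoryTheory.Functor.map_id, ← Functor.map_nsmul, hG, Functor.map_zero]
  show Subsingleton (EtCoh.H Z F q)
  have hrs : ∀ r : PrimeSpectrum R, r ∈ Set.range s.base ↔
      X.fromSpecStalk y (PrimeSpectrum.comap (algebraMap (X.presheaf.stalk y) R) r) ∈ Set.range j.base := fun r => by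
    rw [IsOpenImmersion.range_pullbackSnd]
    exact Iff.rfl
  suffices key : ∃ (T : Scheme.{u}) (i : T ⟶ Spec (CommRingCat.of R)) (_ : IsOpenImmersion i),
      Set.range s.base = Set.range i.base ∧
        ∀ H : EtCoh.Ab T, n • 𝟙 H = 0 → Subsingleton (EtCoh.H T H q) by
    obtain ⟨T, i, _, hr, hT⟩ := key
    let t : T ⟶ Z := (IsOpenImmersion.isoOfRangeEq i s hr.symm).hom
    haveI : IsIso t := inferInstanceAs (IsIso (IsOpenImmersion.isoOfRangeEq i s hr.symm).hom)
    haveI := EtSite.preservesFiniteLimits_pull t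
    haveI : (EtCoh.pull t).Additive := Functor.additive_of_preserves_binary_products _
    haveI : Subsingleton (EtCoh.H T ((EtCoh.pull t).obj F) q) := hT _ (by
      rw [← CategoryTheory.Functor.map_id, ← Functor.map_nsmul, hF, Functor.map_zero])
    exact (AcyComp.bijective_Hpull t F q).1.subsingleton
  by_cases hy : y ∈ Set.range j.base
  · refine ⟨_, 𝟙 (Spec (CommRingCat.of R)), inferInstance, ?_, fun H _ => subsingleton_H_strictLocal R hR H q (by omega)⟩
    refine Set.eq_of_subset_of_subset (fun r _ => ⟨r, rfl⟩) fun r _ => (hrs r).2 ?_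
    have hsp : X.fromSpecStalk y (PrimeSpectrum.comap (algebraMap (X.presheaf.stalk y) R) r) ⤳ y := by
      have : X.fromSpecStalk y (PrimeSpectrum.comap (algebraMap (X.presheaf.stalk y) R) r) ∈
          Set.range (X.fromSpecStalk y) := ⟨_, rfl⟩
      rwa [Scheme.range_fromSpecStalk] at this
    exact hsp.mem_open j.opensRange.isOpen hy
  · haveI := hreg y
    obtain ⟨_, hD⟩ := exists_dvr (X.presheaf.stalk y) (hY1 y hy)
    haveI := hD
    obtain ⟨_, hDR⟩ := CdLower.exists_dvr_strict (X.presheaf.stalk y) R
    haveI := hDR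
    obtain ⟨ϖ, hϖ⟩ := IsDiscreteValuationRing.exists_irreducible R
    obtain ⟨hi, hri⟩ := CdLower.isOpenImmersion_fraction R hϖ
    haveI := hi
    have hu : IsUnit (n : R) := by
      simpa using (hn.map (X.presheaf.germ ⊤ y trivial).hom).map (algebraMap (X.presheaf.stalk y) R)
    refine ⟨_, Spec.map (CommRingCat.ofHom (algebraMap R (FractionRing R))), hi, ?_, fun H hH =>
      Groth.Agent.S4165.result R (FractionRing R) hR n hu H (fun W x => ?_) q hq⟩
    · rw [hri]
      ext r
      refine (hrs r).trans ?_
      refine ⟨fun h hm => hy ?_, fun h => ?_⟩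
      · have hr : r = closedPoint R := PrimeSpectrum.ext (IsLocalRing.eq_maximalIdeal (Ideal.IsPrime.isMaximal r.2
          fun h0 => hϖ.ne_zero (Ideal.mem_bot.1 (h0 ▸ hm))))
        have hc : PrimeSpectrum.comap (algebraMap (X.presheaf.stalk y) R) (closedPoint R) =
            closedPoint (X.presheaf.stalk y) :=
          PrimeSpectrum.ext ((IsLocalRing.maximalIdeal_comap (algebraMap (X.presheaf.stalk y) R)))
        rw [hr, hc] at h
        rwa [← Scheme.fromSpecStalk_closedPoint (X := X) (x := y)]
      · refine fromSpecStalk_mem j hdim hY1 _ fun e => h ?_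
        have he : r.asIdeal.comap (algebraMap (X.presheaf.stalk y) R) = maximalIdeal (X.presheaf.stalk y) :=
          congrArg PrimeSpectrum.asIdeal e
        have hmap := Groth.Agent.S0538.result (X.presheaf.stalk y) R
        have : maximalIdeal R ≤ r.asIdeal := by
          rw [← hmap, Ideal.map_le_iff_le_comap, he]
        exact this ((IsLocalRing.mem_maximalIdeal ϖ).2 hϖ.not_isUnit)
    · have := congrArg (fun k : H ⟶ H => k.hom.app (op W) x) hH
      exact this

end Groth.L28.RegCurve
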