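import Groth.Agent.L28.RegCurve.Cd
import Groth.Agent.L28.CurveCd.GenericLeray
import Groth.Agent.L28.FinitePush.Geom
import Groth.Agent.L28.ExtShriek.Pres
import Groth.Agent.L27.ExtZero.Recollement
import Groth.Agent.L05.SmoothCrit.LocalModelScheme
import Groth.Agent.S3104
import Groth.Agent.L18.CurveBasic

/-! # Embedding a constructible sheaf into a finite direct image of a constant one plus a finite support one -/

set_option autoImplicit false
set_option linter.style.haveILetI false
set_option linter.unusedSectionVars false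
set_option backward.isDefEq.respectTransparency.types false

universe u

open CategoryTheory CategoryTheory.Limits AlgebraicGeometry Opposite TopologicalSpace

noncomputable section

namespace Groth.L28.RegCurve

open Groth.L27

variable {X : Scheme.{u}}

theorem injective_stalk_of_isZero_kernel {F G : EtCoh.Ab X} (φ : F ⟶ G) {Ω : Type u} [Field Ω] [IsSepClosed Ω]
    (ξ : Spec (CommRingCat.of Ω) ⟶ X) (h : IsZero ((EtCoh.stalk ξ).obj (kernel φ))) :
    Function.Injective ((EtCoh.stalk ξ).map φ) := by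
  haveI : (EtCoh.stalk ξ).Additive := Functor.additive_of_preserves_binary_products _
  let S : ShortComplex (EtCoh.Ab X) := ShortComplex.mk (kernel.ι φ) φ (kernel.condition φ)
  have hS : S.Exact := ShortComplex.exact_of_f_is_kernel _ (kernelIsKernel φ)
  haveI := (hS.map (EtCoh.stalk ξ)).mono_g (h.eq_of_src _ _)
  exact (AddCommGrpCat.mono_iff_injective ((S.map (EtCoh.stalk ξ)).g)).1 inferInstance

/-- Injectivity on stalks depends only on the image point. -/
theorem injective_stalk_of_base {F G : EtCoh.Ab X} (φ : F ⟶ G) {Ω : Type u} [Field Ω] [IsSepClosed Ω]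
    (ξ : Spec (CommRingCat.of Ω) ⟶ X) {Ω' : Type u} [Field Ω'] [IsSepClosed Ω']
    (ξ' : Spec (CommRingCat.of Ω') ⟶ X) (he : ξ'.base default = ξ.base default)
    (h : Function.Injective ((EtCoh.stalk ξ).map φ)) : Function.Injective ((EtCoh.stalk ξ').map φ) :=
  injective_stalk_of_isZero_kernel φ ξ'
    (DimFun.isZero_stalk_of_base ξ ξ' he (CurveCd.isZero_stalk_kernel φ ξ h))

set_option maxHeartbeats 1000000 in
theorem exists_mono_into_push [IsIntegral X] [AlgebraicGeometry.IsNoetherian X]
    (hdim : ∀ x : X, ringKrullDim (X.presheaf.stalk x) ≤ 1)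
    (F : EtCoh.Ab X) (hF : EtPBC.IsConstructible F) (m : ℕ) (hmF : EtCoh.KilledBy m F)
    (V : X.Opens) (hV : Nonempty ↥(V : Scheme.{u})) (Un : Scheme.{u}) [IsIntegral Un]
    (hnorm : ∀ y : ↥Un, IsIntegrallyClosed ↑(Un.presheaf.stalk y))
    (π : Un ⟶ X) [IsFinite π] [Surjective π] (M₀ : Type) [AddCommGroup M₀] [Finite M₀]
    (hconst : Nonempty ((EtCoh.pull (π ⁻¹ᵁ V).ι).obj ((EtCoh.pull π).obj F) ≅
      EtCoh.const (↑(π ⁻¹ᵁ V) : Scheme.{u}) M₀)) :
    ∃ (M : Type) (_ : AddCommGroup M) (_ : Finite M), (∀ x : M, m • x = 0) ∧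
      ∃ (Ff : EtCoh.Ab X), EtPBC.IsConstructible Ff ∧ (EtPBC.supp Ff).Finite ∧
        ∃ ι : F ⟶ (EtCoh.push π).obj (EtCoh.const Un M) ⊞ Ff, Mono ι := by
  classical
  obtain ⟨e⟩ := hconst
  haveI : IsLocallyNoetherian Un := LocallyOfFiniteType.isLocallyNoetherian π
  haveI : CompactSpace ↥Un := QuasiCompact.compactSpace_of_compactSpace π
  haveI : AlgebraicGeometry.IsNoetherian Un := {}
  let W : Un.Opens := π ⁻¹ᵁ V
  let j : (W : Scheme.{u}) ⟶ Un := W.ι
  haveI : IsOpenImmersion j := inferInstanceAs (IsOpenImmersion W.ι)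
  haveI : QuasiCompact j := inferInstance
  haveI := ExtZero.jCont j
  obtain ⟨v₀⟩ := hV
  obtain ⟨w₀, hw₀⟩ := π.surjective v₀.1
  have hw₀W : w₀ ∈ W := show π w₀ ∈ V by rw [hw₀]; exact v₀.2
  have hdense : Dense (Set.range j) :=
    W.range_ι.symm ▸ IsOpen.dense W.2 ⟨w₀, hw₀W⟩
  haveI hunit : IsIso ((EtCoh.pullPushAdj j).unit.app (EtCoh.const Un M₀)) :=
    Groth.Agent.S3104.result Un _ (fun y => ⟨inferInstance, hnorm y⟩) j hdense M₀
  -- the value group is killed by `m`
  have hM : ∀ x : M₀, m • x = 0 := fun x => by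
    obtain ⟨Ω, _, _, v, hv⟩ := EtSite.exists_geometric_point (X := (W : Scheme.{u})) ⟨w₀, hw₀W⟩
    let T := (EtCoh.stalk v).obj (EtCoh.const (W : Scheme.{u}) M₀)
    let c : T ≅ AddCommGrpCat.of (ULift.{u + 1} M₀) := Pts.sheafFiberConstIso _ (Sky.inverted v) _
    haveI : (EtCoh.stalk v).Additive := Functor.additive_of_preserves_binary_products _
    have hF0 : m • 𝟙 F = 0 := by
      refine Sheaf.hom_ext (NatTrans.ext (funext fun U => ConcreteCategory.hom_ext _ _ fun s => ?_))
      exact hmF U.unop s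
    have hC : m • 𝟙 (EtCoh.const (W : Scheme.{u}) M₀) = 0 := by
      rw [← cancel_epi e.hom, comp_zero, Preadditive.comp_nsmul, Category.comp_id, ← Category.id_comp e.hom,
        ← Preadditive.nsmul_comp]
      have : m • 𝟙 ((EtCoh.pull W.ι).obj ((EtCoh.pull π).obj F)) = 0 := by
        rw [← CategoryTheory.Functor.map_id, ← CategoryTheory.Functor.map_id, ← Functor.map_nsmul,
          ← Functor.map_nsmul, hF0, Functor.map_zero, Functor.map_zero]
      rw [this, zero_comp]
    have hT : m • 𝟙 T = 0 := by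
      rw [← CategoryTheory.Functor.map_id, ← Functor.map_nsmul, hC, Functor.map_zero]
    let t : T := c.inv ⟨x⟩
    let ev : (T ⟶ T) →+ T := AddMonoidHom.mk' (fun k => k t) fun _ _ => rfl
    have ht : m • t = 0 := ((map_nsmul ev m (𝟙 T)).symm.trans (congrArg ev hT)).trans (map_zero ev)
    have h := congrArg c.hom ht
    rw [map_nsmul, map_zero] at h
    have hx : c.hom t = (⟨x⟩ : ULift.{u + 1} M₀) := by
      show (c.inv ≫ c.hom) _ = _
      rw [c.inv_hom_id]; rfl
    rw [hx] at h
    exact congrArg ULift.down h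
  -- the first component
  let a : (EtCoh.pull j).obj ((EtCoh.pull π).obj F) ⟶ (EtCoh.pull j).obj (EtCoh.const Un M₀) :=
    e.hom ≫ (EtCore.pullConst j M₀).inv
  let g : (EtCoh.pull π).obj F ⟶ EtCoh.const Un M₀ :=
    (EtCoh.pullPushAdj j).homEquiv _ _ a ≫ inv ((EtCoh.pullPushAdj j).unit.app (EtCoh.const Un M₀))
  let f : F ⟶ (EtCoh.push π).obj (EtCoh.const Un M₀) := (EtCoh.pullPushAdj π).homEquiv _ _ g
  haveI hg : IsIso ((EtCoh.pull j).map g) := by
    haveI := (ExtZero.isIso_counit_of_mono j).1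
    haveI : IsIso a := inferInstanceAs (IsIso (e.hom ≫ (EtCore.pullConst j M₀).inv))
    haveI : IsIso ((EtCoh.pull j).map ((EtCoh.pullPushAdj j).homEquiv _ _ a)) := by
      have h := (EtCoh.pullPushAdj j).homEquiv_counit ((EtCoh.pull π).obj F) ((EtCoh.pull j).obj (EtCoh.const Un M₀))
        ((EtCoh.pullPushAdj j).homEquiv _ _ a)
      rw [Equiv.symm_apply_apply] at h
      haveI : IsIso ((EtCoh.pull j).map ((EtCoh.pullPushAdj j).homEquiv _ _ a) ≫
          (EtCoh.pullPushAdj j).counit.app ((EtCoh.pull j).obj (EtCoh.const Un M₀))) := h ▸ inferInstance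
      exact IsIso.of_isIso_comp_right _
        ((EtCoh.pullPushAdj j).counit.app ((EtCoh.pull j).obj (EtCoh.const Un M₀)))
    rw [show g = _ from rfl, Functor.map_comp]
    infer_instance
  -- the second component
  have hclosed : IsClosed ((V : Set X)ᶜ) := V.2.isClosed_compl
  let Zc : Closeds X := ⟨(V : Set X)ᶜ, hclosed⟩
  let i := (Scheme.IdealSheafData.vanishingIdeal Zc).subschemeι
  have hi : Set.range i = (V : Set X)ᶜ := by
    rw [Scheme.IdealSheafData.range_subschemeι, Scheme.IdealSheafData.coe_support_vanishingIdeal]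
    rfl
  haveI : IsClosedImmersion i := inferInstance
  haveI : LocallyOfFinitePresentation i := Groth.L05.SmoothCrit.lfp_of_noetherian i
  haveI : IsFinite i := inferInstance
  let Ff := (EtCoh.push i).obj ((EtCoh.pull i).obj F)
  have hFf : EtPBC.IsConstructible Ff :=
    Groth.L28.FinitePush.isConstructible_push i (Groth.L28.ExtShriek.isConstructible_pull i hF)
  have hsupp : EtPBC.supp Ff ⊆ (V : Set X)ᶜ := by
    rintro y ⟨Ω, _, _, ξ, hξ, hne⟩
    by_contra hy
    refine hne (CurveCd.isZero_stalk_push_closure i _ ξ ?_)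
    rw [hi, hclosed.closure_eq, show ξ.base default = y from hξ.subset ⟨default, rfl⟩]
    exact hy
  have hfin : ((V : Set X)ᶜ).Finite := by
    refine Groth.L18.Curve.finite_of_forall_isClosed hclosed fun x hx => isClosed_of_ne_genericPoint hdim ?_
    rintro rfl
    exact hx ((genericPoint_specializes v₀.1).mem_open V.2 v₀.2)
  refine ⟨M₀, inferInstance, inferInstance, hM, Ff, hFf, hfin.subset hsupp,
    biprod.lift f ((EtCoh.pullPushAdj i).unit.app F), ?_⟩
  refine (EtSite.mono_iff_stalks _).2 fun Ω _ _ ξ => ?_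
  by_cases hy : ξ.base default ∈ V
  · have hinj : Function.Injective ((EtCoh.stalk ξ).map f) := by
      obtain ⟨z, hz⟩ := π.surjective (ξ.base default)
      have hzW : z ∈ W := show π z ∈ V by rw [hz]; exact hy
      obtain ⟨Ω', _, _, v, hv⟩ := EtSite.exists_geometric_point (X := (W : Scheme.{u})) ⟨z, hzW⟩
      refine injective_stalk_of_base f ((v ≫ j) ≫ π) ξ ?_ ?_
      · rw [Scheme.Hom.comp_apply, Scheme.Hom.comp_apply, hv]
        exact hz.symm
      haveI : IsIso ((EtCoh.stalk (v ≫ j)).map g) :=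
        (NatIso.isIso_map_iff (EtSite.stalkPullIso j v) g).1
          (inferInstanceAs (IsIso ((EtCoh.stalk v).map ((EtCoh.pull j).map g))))
      have hfg : (EtCoh.pull π).map f ≫ (EtCoh.pullPushAdj π).counit.app (EtCoh.const Un M₀) = g :=
        ((EtCoh.pullPushAdj π).homEquiv_counit _ _ _).symm.trans (Equiv.symm_apply_apply _ _)
      have hgi : Function.Injective ((EtCoh.stalk (v ≫ j)).map g) :=
        ((ConcreteCategory.isIso_iff_bijective _).1 inferInstance).1
      rw [← hfg, Functor.map_comp] at hgi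
      have h1 : Function.Injective ((EtCoh.stalk (v ≫ j)).map ((EtCoh.pull π).map f)) := fun p q hpq => hgi (by
        rw [ConcreteCategory.comp_apply, ConcreteCategory.comp_apply, hpq])
      intro p q hpq
      have hnat := (EtSite.stalkPullIso π (v ≫ j)).inv.naturality f
      have hp := ConcreteCategory.congr_hom hnat p
      have hq := ConcreteCategory.congr_hom hnat q
      rw [ConcreteCategory.comp_apply, ConcreteCategory.comp_apply] at hp hq
      exact ((ConcreteCategory.isIso_iff_bijective ((EtSite.stalkPullIso π (v ≫ j)).inv.app F)).1 inferInstance).1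
        (h1 (hp.symm.trans ((congrArg _ hpq).trans hq)))
    intro p q h
    refine hinj ?_
    have h' := congrArg ((EtCoh.stalk ξ).map (biprod.fst : (EtCoh.push π).obj (EtCoh.const Un M₀) ⊞ Ff ⟶ _)) h
    rwa [← ConcreteCategory.comp_apply, ← ConcreteCategory.comp_apply, ← Functor.map_comp, biprod.lift_fst] at h'
  · have hr : Set.range V.ι.base = (Set.range i.base)ᶜ := by
      rw [hi, compl_compl]
      exact V.range_ι
    haveI := ExtZero.jCont V.ι
    haveI := ExtZero.isIso_stalk_unit_outside V.ι i hr F ξ (by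
      rw [show Set.range V.ι.base = (V : Set X) from V.range_ι]
      exact hy)
    intro p q h
    refine ((ConcreteCategory.isIso_iff_bijective ((EtCoh.stalk ξ).map ((EtCoh.pullPushAdj i).unit.app F))).1
      inferInstance).1 ?_
    have h' := congrArg ((EtCoh.stalk ξ).map (biprod.snd : (EtCoh.push π).obj (EtCoh.const Un M₀) ⊞ Ff ⟶ _)) h
    rwa [← ConcreteCategory.comp_apply, ← ConcreteCategory.comp_apply, ← Functor.map_comp, biprod.lift_snd] at h'

end Groth.L28.RegCurve
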