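import Groth.Agent.L28.RegCurve.Cd
import Groth.Agent.L27.ExtZero.Recollement
import Groth.Agent.L27.InjPush.Support

/-! # Sheaves on a regular curve vanishing at the generic point and at finitely many closed points -/

set_option autoImplicit false
set_option linter.style.haveILetI false
set_option linter.unusedSectionVars false
set_option backward.isDefEq.respectTransparency.types false

universe u

open CategoryTheory CategoryTheory.Limits AlgebraicGeometry Opposite IsLocalRing

noncomputable section

namespace Groth.L28.RegCurve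

open Groth.L27

theorem ringKrullDim_stalk_eq_one {X : Scheme.{u}} [IsIntegral X]
    (hdim : ∀ x : X, ringKrullDim (X.presheaf.stalk x) ≤ 1) {y : X} (hy : y ≠ genericPoint X) :
    ringKrullDim (X.presheaf.stalk y) = 1 := by
  rw [ringKrullDim_stalk_eq_coheight]
  have hs : genericPoint X ⤳ y := genericPoint_specializes y
  have hlt : y < genericPoint X := lt_iff_le_not_ge.2 ⟨hs, fun h' => hy (hs.antisymm h').eq.symm⟩
  have hc : Order.coheight y = 1 := le_antisymm (coheight_le hdim y)
    (le_trans le_add_self (Order.coheight_add_one_le hlt))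
  rw [hc]
  rfl

theorem isDiscreteValuationRing_stalk' {X : Scheme.{u}} [IsIntegral X]
    (hreg : ∀ x : X, IsRegularLocalRing (X.presheaf.stalk x))
    (hdim : ∀ x : X, ringKrullDim (X.presheaf.stalk x) ≤ 1) {y : X} (hy : y ≠ genericPoint X) :
    IsDiscreteValuationRing (X.presheaf.stalk y) := by
  haveI := hreg y
  obtain ⟨_, hD⟩ := exists_dvr (X.presheaf.stalk y) (ringKrullDim_stalk_eq_one hdim hy)
  exact hD

variable {X U : Scheme.{u}} [IsIntegral X] (j : U ⟶ X) [IsOpenImmersion j]

set_option maxHeartbeats 1000000 in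
/-- Stalks of the higher direct images of a sheaf vanishing at the generic point. -/
theorem isZero_stalk_Rpush [QuasiCompact j] (hreg : ∀ x : X, IsRegularLocalRing (X.presheaf.stalk x))
    (hdim : ∀ x : X, ringKrullDim (X.presheaf.stalk x) ≤ 1) (hgenmem : genericPoint X ∈ Set.range j.base)
    (G : EtCoh.Ab U)
    (hG : ∀ (Ω : Type u) [Field Ω] [IsSepClosed Ω] (v : Spec (CommRingCat.of Ω) ⟶ U),
      (v ≫ j).base default = genericPoint X → IsZero ((EtCoh.stalk v).obj G))
    (q : ℕ) {Ω : Type u} [Field Ω] [IsSepClosed Ω] (ξ : Spec (CommRingCat.of Ω) ⟶ X)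
    (hq : ξ.base default ∉ Set.range j.base ∨ 0 < q) :
    IsZero ((EtCoh.stalk ξ).obj ((EtCoh.Rpush j q).obj G)) := by
  let y := ξ.base default
  obtain ⟨R, _, _, _, _, hS⟩ := L05.Henselization.exists_isStrictHenselization (X.presheaf.stalk y)
  haveI : IsSepClosed (IsLocalRing.ResidueField R) := hS.isSepClosure.sep_closed
  have hR : EtCoh.IsStrictlyHenselianLocalRing R := ⟨hS.henselian, hS.isSepClosure.sep_closed⟩
  obtain ⟨e⟩ := StalkRpush.nonempty_natIso j y R q
  refine DimFun.isZero_stalk_of_base (Hens2.geomPt X y R) ξ (PBC.geomPt_default _ _ R).symm ?_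
  refine IsZero.of_iso (@AddCommGrpCat.isZero_of_subsingleton _ ?_) (e.app G)
  let Z := pullback j (Hens2.specOf X y R)
  let s : Z ⟶ Spec (CommRingCat.of R) := pullback.snd j (Hens2.specOf X y R)
  haveI : IsOpenImmersion s := inferInstance
  haveI := EtSite.preservesFiniteLimits_pull (pullback.fst j (Hens2.specOf X y R))
  let F : EtCoh.Ab Z := (EtCoh.pull (pullback.fst j (Hens2.specOf X y R))).obj G
  show Subsingleton (EtCoh.H Z F q)
  have hrs : ∀ r : PrimeSpectrum R, r ∈ Set.range s.base ↔
      X.fromSpecStalk y (PrimeSpectrum.comap (algebraMap (X.presheaf.stalk y) R) r) ∈ Set.range j.base := fun r => by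
    rw [IsOpenImmersion.range_pullbackSnd]
    exact Iff.rfl
  suffices key : ∃ (T : Scheme.{u}) (i : T ⟶ Spec (CommRingCat.of R)) (_ : IsOpenImmersion i)
      (hr : Set.range s.base = Set.range i.base),
      Subsingleton (EtCoh.H T ((EtCoh.pull (IsOpenImmersion.isoOfRangeEq i s hr.symm).hom).obj F) q) by
    obtain ⟨T, i, _, hr, hT⟩ := key
    let t : T ⟶ Z := (IsOpenImmersion.isoOfRangeEq i s hr.symm).hom
    haveI : IsIso t := inferInstanceAs (IsIso (IsOpenImmersion.isoOfRangeEq i s hr.symm).hom)
    haveI := EtSite.preservesFiniteLimits_pull t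
    haveI : Subsingleton (EtCoh.H T ((EtCoh.pull t).obj F) q) := hT
    exact (AcyComp.bijective_Hpull t F q).1.subsingleton
  by_cases hy : y ∈ Set.range j.base
  · refine ⟨_, 𝟙 (Spec (CommRingCat.of R)), inferInstance, ?_,
      subsingleton_H_strictLocal R hR _ q (hq.resolve_left fun h => h hy)⟩
    refine Set.eq_of_subset_of_subset (fun r _ => ⟨r, rfl⟩) fun r _ => (hrs r).2 ?_
    have hsp : X.fromSpecStalk y (PrimeSpectrum.comap (algebraMap (X.presheaf.stalk y) R) r) ⤳ y := by
      have : X.fromSpecStalk y (PrimeSpectrum.comap (algebraMap (X.presheaf.stalk y) R) r) ∈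
          Set.range (X.fromSpecStalk y) := ⟨_, rfl⟩
      rwa [Scheme.range_fromSpecStalk] at this
    exact hsp.mem_open j.opensRange.isOpen hy
  · have hyg : y ≠ genericPoint X := fun h => hy (h ▸ hgenmem)
    haveI := hreg y
    haveI := isDiscreteValuationRing_stalk' hreg hdim hyg
    obtain ⟨_, hDR⟩ := CdLower.exists_dvr_strict (X.presheaf.stalk y) R
    haveI := hDR
    have hY1 : ∀ x : X, x ∉ Set.range j.base → ringKrullDim (X.presheaf.stalk x) = 1 := fun x hx =>
      ringKrullDim_stalk_eq_one hdim fun h => hx (h ▸ hgenmem)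
    obtain ⟨ϖ, hϖ⟩ := IsDiscreteValuationRing.exists_irreducible R
    obtain ⟨hi, hri⟩ := CdLower.isOpenImmersion_fraction R hϖ
    haveI := hi
    let i := Spec.map (CommRingCat.ofHom (algebraMap R (FractionRing R)))
    have hr : Set.range s.base = Set.range i.base := by
      rw [hri]
      ext r
      refine (hrs r).trans ?_
      refine ⟨fun h hm => hy ?_, fun h => ?_⟩
      · have hr : r = closedPoint R := PrimeSpectrum.ext (IsLocalRing.eq_maximalIdeal (Ideal.IsPrime.isMaximal r.2
          fun h0 => hϖ.ne_zero (Ideal.mem_bot.1 (h0 ▸ hm))))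
        have hc : PrimeSpectrum.comap (algebraMap (X.presheaf.stalk y) R) (closedPoint R) =
            closedPoint (X.presheaf.stalk y) :=
          PrimeSpectrum.ext ((IsLocalRing.maximalIdeal_comap (algebraMap (X.presheaf.stalk y) R)))
        rw [hr, hc] at h
        rwa [← Scheme.fromSpecStalk_closedPoint (X := X) (x := y)]
      · refine fromSpecStalk_mem j hdim hY1 _ fun e => h ?_
        have he : r.asIdeal.comap (algebraMap (X.presheaf.stalk y) R) = maximalIdeal (X.presheaf.stalk y) :=
          congrArg PrimeSpectrum.asIdeal e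
        have hmap := Groth.Agent.S0538.result (X.presheaf.stalk y) R
        have : maximalIdeal R ≤ r.asIdeal := by
          rw [← hmap, Ideal.map_le_iff_le_comap, he]
        exact this ((IsLocalRing.mem_maximalIdeal ϖ).2 hϖ.not_isUnit)
    refine ⟨_, i, hi, hr, ?_⟩
    let t := (IsOpenImmersion.isoOfRangeEq i s hr.symm).hom
    have ht : t ≫ s = i := IsOpenImmersion.isoOfRangeEq_hom_fac i s hr.symm
    have hzero : IsZero ((EtCoh.pull t).obj F) := by
      refine (EtSite.isZero_iff_stalks _).2 fun Ω' _ _ v => ?_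
      refine IsZero.of_iso ?_ ((EtSite.stalkPullIso t v).app F)
      refine IsZero.of_iso ?_ ((EtSite.stalkPullIso (pullback.fst j (Hens2.specOf X y R)) (v ≫ t)).app G)
      refine hG Ω' _ ?_
      have he : ((v ≫ t) ≫ pullback.fst j (Hens2.specOf X y R)) ≫ j = (v ≫ i) ≫ Hens2.specOf X y R := by
        rw [← ht, Category.assoc, Category.assoc, pullback.condition, Category.assoc, Category.assoc]
      rw [he]
      let r : PrimeSpectrum R := (v ≫ i).base default
      have hr' : r ∈ Set.range s.base := hr.ge ⟨v.base default, (Scheme.Hom.comp_apply _ _ _).symm⟩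
      have hz := (hrs r).1 hr'
      let z := X.fromSpecStalk y (PrimeSpectrum.comap (algebraMap (X.presheaf.stalk y) R) r)
      have hzy : z ≠ y := fun h => hy (h ▸ hz)
      have hsp : z ⤳ y := by
        have : z ∈ Set.range (X.fromSpecStalk y) := ⟨_, rfl⟩
        rwa [Scheme.range_fromSpecStalk] at this
      refine Eq.trans ?_ (eq_genericPoint_of_specializes hdim hsp hzy)
      exact (Scheme.Hom.comp_apply _ _ _).trans (Scheme.Hom.comp_apply _ _ _)
    exact AddCommGrpCat.subsingleton_of_isZero ((EtCoh.HF _ q).map_isZero hzero)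

end Groth.L28.RegCurve
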