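import Groth.Agent.L28.RegCurve.GenGm
import Groth.Agent.L28.RegCurve.Vanish
import Groth.Agent.L28.DivGen.Total
import Groth.Agent.L28.DivGen.Regular
import Groth.Agent.L28.CurveCd.GenericLeray
import Groth.Agent.L27.Hom.ExtAdj
import Groth.Agent.L18.CurveBasic

/-! # Extensions of sheaves with finite support by the multiplicative group on a regular curve -/

set_option autoImplicit false
set_option linter.style.haveILetI false
set_option linter.unusedSectionVars false
set_option backward.isDefEq.respectTransparency.types false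

universe u

open CategoryTheory CategoryTheory.Limits AlgebraicGeometry Opposite IsLocalRing CategoryTheory.Abelian

noncomputable section

namespace Groth.L28.RegCurve

open Groth.L27

variable {X Y : Scheme.{u}}

theorem isZero_stalk_of_not_mem_supp (F : EtCoh.Ab X) {Ω : Type u} [Field Ω] [IsSepClosed Ω]
    (ξ : Spec (CommRingCat.of Ω) ⟶ X) (h : ξ.base default ∉ EtPBC.supp F) : IsZero ((EtCoh.stalk ξ).obj F) :=
  by_contra fun hn => h ⟨Ω, inferInstance, inferInstance, ξ, Spz.range_eq_singleton ξ rfl, hn⟩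

theorem isZero_pull_of_supp (f : Y ⟶ X) (F : EtCoh.Ab X) (h : ∀ y : Y, f.base y ∉ EtPBC.supp F) :
    IsZero ((EtCoh.pull f).obj F) :=
  (EtSite.isZero_iff_stalks _).2 fun Ω _ _ v => (isZero_stalk_of_not_mem_supp F (v ≫ f)
    (by rw [Scheme.Hom.comp_apply]; exact h _)).of_iso ((EtSite.stalkPullIso f v).app F)

theorem nonempty_extEquiv (f : Y ⟶ X) (A : EtCoh.Ab X) (G : EtCoh.Ab Y)
    (h : ∀ q : ℕ, 0 < q → IsZero ((EtCoh.Rpush f q).obj G)) (n : ℕ) :
    Nonempty (Ext.{u + 1} A ((EtCoh.push f).obj G) n ≃+ Ext.{u + 1} ((EtCoh.pull f).obj A) G n) := by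
  haveI := EtSite.preservesFiniteLimits_pull f
  haveI : PreservesColimitsOfSize.{0, 0} (EtCoh.pull f) := (EtCoh.pullPushAdj f).leftAdjoint_preservesColimits
  haveI : PreservesFiniteColimits (EtCoh.pull f) := PreservesColimitsOfSize.preservesFiniteColimits _
  haveI : PreservesLimitsOfSize.{0, 0} (EtCoh.push f) := (EtCoh.pullPushAdj f).rightAdjoint_preservesLimits
  haveI : PreservesFiniteLimits (EtCoh.push f) := PreservesLimitsOfSize.preservesFiniteLimits _
  haveI : (EtCoh.pull f).Additive := Functor.additive_of_preserves_binary_products _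
  haveI : (EtCoh.push f).Additive := Functor.additive_of_preserves_binary_products _
  refine ⟨AddEquiv.ofBijective (AddMonoidHom.mk' (ExtAdj.phi (EtCoh.pullPushAdj f) A G n) fun a b => ?_)
    (ExtAdj.bijective_phi (EtCoh.pullPushAdj f) n G h)⟩
  simp only [ExtAdj.phi, Ext.mapExactFunctor_add, Ext.add_comp]

theorem subsingleton_ext_of_isZero {A B : EtCoh.Ab X} (hA : IsZero A) (n : ℕ) :
    Subsingleton (Ext.{u + 1} A B n) := by
  refine subsingleton_of_forall_eq 0 fun x => ?_
  rw [← Ext.mk₀_id_comp x, hA.eq_of_src (𝟙 A) 0, Ext.mk₀_zero, Ext.zero_comp]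

theorem subsingleton_ext_push (f : Y ⟶ X) (A : EtCoh.Ab X) (G : EtCoh.Ab Y)
    (h : ∀ q : ℕ, 0 < q → IsZero ((EtCoh.Rpush f q).obj G)) (hA : IsZero ((EtCoh.pull f).obj A)) (n : ℕ) :
    Subsingleton (Ext.{u + 1} A ((EtCoh.push f).obj G) n) := by
  obtain ⟨e⟩ := nonempty_extEquiv f A G h n
  haveI := subsingleton_ext_of_isZero (B := G) hA n
  exact e.toEquiv.injective.subsingleton

variable [IsIntegral X] [AlgebraicGeometry.IsNoetherian X]

/-- Sheaves vanishing at the generic point and on a finite set receive no extensions from that set. -/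
theorem subsingleton_ext_of_vanish (hreg : ∀ x : X, IsRegularLocalRing (X.presheaf.stalk x))
    (hdim : ∀ x : X, ringKrullDim (X.presheaf.stalk x) ≤ 1) (F B : EtCoh.Ab X) (Z : Set X) (hZ : IsClosed Z)
    (hη : genericPoint X ∉ Z) (hsupp : EtPBC.supp F ⊆ Z)
    (hB : ∀ (Ω : Type u) [Field Ω] [IsSepClosed Ω] (ξ : Spec (CommRingCat.of Ω) ⟶ X),
      ξ.base default ∈ Z ∨ ξ.base default = genericPoint X → IsZero ((EtCoh.stalk ξ).obj B)) (n : ℕ) :
    Subsingleton (Ext.{u + 1} F B n) := by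
  let V : X.Opens := ⟨Zᶜ, hZ.isOpen_compl⟩
  let j : (V : Scheme.{u}) ⟶ X := V.ι
  haveI : IsOpenImmersion j := inferInstanceAs (IsOpenImmersion V.ι)
  haveI : QuasiCompact j := inferInstance
  haveI := ExtZero.jCont j
  have hrange : Set.range j.base = Zᶜ := V.range_ι
  have hgen : genericPoint X ∈ Set.range j.base := hrange.ge hη
  let G := (EtCoh.pull j).obj B
  have hG : ∀ (Ω : Type u) [Field Ω] [IsSepClosed Ω] (v : Spec (CommRingCat.of Ω) ⟶ (V : Scheme.{u})),
      (v ≫ j).base default = genericPoint X → IsZero ((EtCoh.stalk v).obj G) := fun Ω _ _ v hv =>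
    (hB Ω (v ≫ j) (Or.inr hv)).of_iso ((EtSite.stalkPullIso j v).app B)
  haveI : PreservesLimitsOfSize.{0, 0} (EtCoh.push j) := (EtCoh.pullPushAdj j).rightAdjoint_preservesLimits
  haveI : PreservesFiniteLimits (EtCoh.push j) := PreservesLimitsOfSize.preservesFiniteLimits _
  let u₀ : B ⟶ (EtCoh.push j).obj G := (EtCoh.pullPushAdj j).unit.app B
  haveI hpull : IsIso ((EtCoh.pull j).map u₀) := by
    haveI := (ExtZero.isIso_counit_of_mono j).1
    haveI : IsIso ((EtCoh.pull j).map u₀ ≫ (EtCoh.pullPushAdj j).counit.app ((EtCoh.pull j).obj B)) := by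
      rw [(EtCoh.pullPushAdj j).left_triangle_components B]; exact IsIso.id _
    exact IsIso.of_isIso_comp_right _ ((EtCoh.pullPushAdj j).counit.app ((EtCoh.pull j).obj B))
  have hstalk : ∀ (Ω : Type u) [Field Ω] [IsSepClosed Ω] (ξ : Spec (CommRingCat.of Ω) ⟶ X),
      IsIso ((EtCoh.stalk ξ).map u₀) := fun Ω _ _ ξ => by
    by_cases hx : ξ.base default ∈ Set.range j.base
    · have hr : Set.range ξ ⊆ Set.range j := by
        rintro - ⟨z, rfl⟩; rwa [Subsingleton.elim (α := Spec (CommRingCat.of Ω)) z default]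
      obtain ⟨v, rfl⟩ : ∃ v, v ≫ j = ξ := ⟨IsOpenImmersion.lift j ξ hr, IsOpenImmersion.lift_fac j ξ hr⟩
      exact (NatIso.isIso_map_iff (EtSite.stalkPullIso j v) _).1
        (inferInstanceAs (IsIso ((EtCoh.stalk v).map ((EtCoh.pull j).map u₀))))
    · have h1 : IsZero ((EtCoh.stalk ξ).obj ((EtCoh.push j).obj G)) :=
        (isZero_stalk_Rpush j hreg hdim hgen G hG 0 ξ (Or.inl hx)).of_iso
          ((EtCoh.stalk ξ).mapIso ((EtCoh.push j).rightDerivedZeroIsoSelf.app G).symm)
      have h0 : IsZero ((EtCoh.stalk ξ).obj B) := hB Ω ξ (Or.inl (by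
        rw [hrange] at hx; exact not_not.1 hx))
      exact ⟨⟨0, h0.eq_of_src _ _, h1.eq_of_src _ _⟩⟩
  haveI : IsIso u₀ := by
    haveI : Mono u₀ := (EtSite.mono_iff_stalks u₀).2 fun Ω _ _ ξ =>
      ((ConcreteCategory.isIso_iff_bijective _).1 (hstalk Ω ξ)).1
    haveI : Epi u₀ := (EtSite.epi_iff_stalks u₀).2 fun Ω _ _ ξ =>
      ((ConcreteCategory.isIso_iff_bijective _).1 (hstalk Ω ξ)).2
    exact isIso_of_mono_of_epi _
  haveI : Subsingleton (Ext.{u + 1} F ((EtCoh.push j).obj G) n) :=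
    subsingleton_ext_push j F G (fun q hq => (EtSite.isZero_iff_stalks _).2 fun Ω _ _ ξ =>
        isZero_stalk_Rpush j hreg hdim hgen G hG q ξ (Or.inr hq))
      (isZero_pull_of_supp j F fun y hy => (hrange.le ⟨y, rfl⟩) (hsupp hy)) n
  refine subsingleton_of_forall_eq 0 fun x => ?_
  rw [← Ext.comp_mk₀_id x, ← IsIso.hom_inv_id u₀, ← Ext.mk₀_comp_mk₀, ← Ext.comp_assoc_of_third_deg_zero,
    @Subsingleton.elim _ ‹Subsingleton (Ext.{u + 1} F ((EtCoh.push j).obj G) n)› (x.comp (Ext.mk₀ u₀) (add_zero n)) 0,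
    Ext.zero_comp]

section Main

variable (hreg : ∀ x : X, IsRegularLocalRing (X.presheaf.stalk x))
    (hdim : ∀ x : X, ringKrullDim (X.presheaf.stalk x) ≤ 1)

include hdim in
theorem ne_genericPoint_of_pt (x : DivGen.Pt X) : x.1 ≠ genericPoint X := fun h => by
  have h1 := x.2
  rw [h] at h1
  have h0 : ringKrullDim (X.presheaf.stalk (genericPoint X)) = 0 :=
    ringKrullDim_eq_zero_of_isField (Field.toIsField X.functionField)
  exact zero_ne_one (h0.symm.trans h1)

include hreg hdim in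
/-- Extensions of a sheaf with finite support by a sum of skyscrapers. -/
theorem nonempty_extEquiv_sum (F : EtCoh.Ab X) (Z : Set X) (hZ : IsClosed Z) (hη : genericPoint X ∉ Z)
    (hsupp : EtPBC.supp F ⊆ Z) (c : Cofan (DivGen.Skyz X)) (hc : IsColimit c) (r : ℕ) :
    Nonempty (Ext.{u + 1} F c.pt r ≃+ ∀ v : ↥Z, Ext.{u + 1}
      ((EtCoh.pull (X.fromSpecResidueField (v : X))).obj F)
      (EtCoh.const (Spec (X.residueField (v : X))) ℤ) r) := by
  classical
  have hclosed : ∀ x ∈ Z, IsClosed ({x} : Set X) := fun x hx =>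
    isClosed_of_ne_genericPoint hdim fun h => hη (h ▸ hx)
  haveI : Finite ↥Z := (Groth.L18.Curve.finite_of_forall_isClosed hZ hclosed).to_subtype
  letI := Fintype.ofFinite ↥Z
  let pt : ↥Z → DivGen.Pt X := fun v =>
    ⟨v.1, ringKrullDim_stalk_eq_one hdim fun h => hη (h ▸ v.2)⟩
  have hpt : Function.Injective pt := fun a b e => Subtype.ext (congrArg (fun x : DivGen.Pt X => x.1) e)
  let p : ∀ v : ↥Z, c.pt ⟶ DivGen.Skyz X (pt v) := fun v => DivGen.pr c hc (pt v)
  let ι : ∀ v : ↥Z, DivGen.Skyz X (pt v) ⟶ c.pt := fun v => c.inj (pt v)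
  let π : c.pt ⟶ c.pt := 𝟙 _ - ∑ v : ↥Z, p v ≫ ι v
  have hπp : ∀ w : ↥Z, π ≫ p w = 0 := fun w => by
    simp only [π, Preadditive.sub_comp, Category.id_comp, Preadditive.sum_comp, Category.assoc]
    rw [Finset.sum_eq_single w, DivGen.inj_pr_self, Category.comp_id, sub_self]
    · intro v _ hv
      rw [DivGen.inj_pr_ne c hc (hpt.ne hv), comp_zero]
    · exact fun h => absurd (Finset.mem_univ w) h
  have hπ : ∀ (Ω : Type u) [Field Ω] [IsSepClosed Ω] (ξ : Spec (CommRingCat.of Ω) ⟶ X),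
      ξ.base default ∈ Z ∨ ξ.base default = genericPoint X → (EtCoh.stalk ξ).map π = 0 := fun Ω _ _ ξ hξ => by
    haveI : (EtCoh.stalk ξ).Additive := Functor.additive_of_preserves_binary_products _
    refine ConcreteCategory.hom_ext _ _ fun a => DivGen.eq_zero_of_pr c hc ξ _ fun x => ?_
    by_cases hx : x.1 ∈ Z
    · have h0 : (EtCoh.stalk ξ).map π ≫ (EtCoh.stalk ξ).map (DivGen.pr c hc x) = 0 := by
        rw [← Functor.map_comp, show DivGen.pr c hc x = p ⟨x.1, hx⟩ from rfl, hπp, Functor.map_zero]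
      exact ConcreteCategory.congr_hom h0 a
    · have hcl := isClosed_of_ne_genericPoint hdim (ne_genericPoint_of_pt hdim x)
      haveI := AddCommGrpCat.subsingleton_of_isZero
        (CurveCd.isZero_stalk_push_closure (X.fromSpecResidueField x.1) (EtCoh.const _ ℤ) ξ (by
          rw [Scheme.range_fromSpecResidueField, hcl.closure_eq, Set.mem_singleton_iff]
          rintro h
          rcases hξ with h' | h'
          · exact hx (h ▸ h')
          · exact ne_genericPoint_of_pt hdim x (h.symm.trans h')))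
      exact @Subsingleton.elim ((EtCoh.stalk ξ).obj (DivGen.Skyz X x)) _ _ _
  have hext : Subsingleton (Ext.{u + 1} F (Abelian.image π) r) :=
    subsingleton_ext_of_vanish hreg hdim F _ Z hZ hη hsupp (fun Ω _ _ ξ hξ => by
      refine @AddCommGrpCat.isZero_of_subsingleton _ (subsingleton_of_forall_eq 0 fun z => ?_)
      obtain ⟨a, rfl⟩ := (EtSite.epi_iff_stalks (Abelian.factorThruImage π)).1 inferInstance Ω ξ z
      refine (EtSite.mono_iff_stalks (Abelian.image.ι π)).1 inferInstance Ω ξ ?_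
      rw [← ConcreteCategory.comp_apply, ← Functor.map_comp, Abelian.image.fac, hπ Ω ξ hξ, map_zero]
      rfl) r
  have hzero : ∀ x : Ext.{u + 1} F c.pt r, x.comp (Ext.mk₀ π) (add_zero r) = 0 := fun x => by
    rw [← Abelian.image.fac π, ← Ext.mk₀_comp_mk₀, ← Ext.comp_assoc_of_third_deg_zero,
      @Subsingleton.elim _ hext (x.comp (Ext.mk₀ (Abelian.factorThruImage π)) (add_zero r)) 0, Ext.zero_comp]
  let e₀ : Ext.{u + 1} F c.pt r ≃+ ∀ v : ↥Z, Ext.{u + 1} F (DivGen.Skyz X (pt v)) r :=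
    { toFun := fun x v => x.comp (Ext.mk₀ (p v)) (add_zero r)
      invFun := fun y => ∑ v : ↥Z, (y v).comp (Ext.mk₀ (ι v)) (add_zero r)
      left_inv := fun x => by
        let Φ : (c.pt ⟶ c.pt) →+ Ext.{u + 1} F c.pt r :=
          AddMonoidHom.mk' (fun f => x.comp (Ext.mk₀ f) (add_zero r)) fun f g => by
            rw [Ext.mk₀_add, Ext.comp_add]
        have h := map_sub Φ (𝟙 c.pt) (∑ v : ↥Z, p v ≫ ι v)
        rw [show Φ (𝟙 c.pt - ∑ v : ↥Z, p v ≫ ι v) = 0 from hzero x, map_sum,
          show Φ (𝟙 c.pt) = x from Ext.comp_mk₀_id x] at h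
        refine Eq.trans (Finset.sum_congr rfl fun v _ => ?_) (sub_eq_zero.1 h.symm).symm
        show (x.comp (Ext.mk₀ (p v)) (add_zero r)).comp (Ext.mk₀ (ι v)) (add_zero r) =
          x.comp (Ext.mk₀ (p v ≫ ι v)) (add_zero r)
        rw [Ext.comp_assoc_of_third_deg_zero, Ext.mk₀_comp_mk₀]
      right_inv := fun y => funext fun w => by
        let Ψ : Ext.{u + 1} F c.pt r →+ Ext.{u + 1} F (DivGen.Skyz X (pt w)) r :=
          AddMonoidHom.mk' (fun x => x.comp (Ext.mk₀ (p w)) (add_zero r)) fun a b => Ext.add_comp _ _ _ _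
        show Ψ _ = y w
        rw [map_sum, Finset.sum_eq_single w]
        · show ((y w).comp (Ext.mk₀ (ι w)) (add_zero r)).comp (Ext.mk₀ (p w)) (add_zero r) = y w
          rw [Ext.comp_assoc_of_third_deg_zero, Ext.mk₀_comp_mk₀, DivGen.inj_pr_self, Ext.comp_mk₀_id]
        · intro v _ hv
          show ((y v).comp (Ext.mk₀ (ι v)) (add_zero r)).comp (Ext.mk₀ (p w)) (add_zero r) = 0
          rw [Ext.comp_assoc_of_third_deg_zero, Ext.mk₀_comp_mk₀, DivGen.inj_pr_ne c hc (hpt.ne hv), Ext.mk₀_zero,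
            Ext.comp_zero]
        · exact fun h => absurd (Finset.mem_univ w) h
      map_add' := fun a b => funext fun v => Ext.add_comp _ _ _ _ }
  have hsky : ∀ v : ↥Z, Nonempty (Ext.{u + 1} F (DivGen.Skyz X (pt v)) r ≃+ Ext.{u + 1}
      ((EtCoh.pull (X.fromSpecResidueField (v : X))).obj F)
      (EtCoh.const (Spec (X.residueField (v : X))) ℤ) r) := fun v => by
    haveI : IsClosedImmersion (X.fromSpecResidueField v.1) :=
      isClosed_singleton_iff_isClosedImmersion.1 (hclosed v.1 v.2)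
    exact nonempty_extEquiv (X.fromSpecResidueField v.1) F _ (fun q hq =>
      EtSite.isZero_Rpush_of_propB _ (EtSite.propB_of_isIntegralHom _) _ q hq) r
  exact ⟨e₀.trans (AddEquiv.piCongrRight fun v => (hsky v).some)⟩

include hreg hdim in
/-- Extensions of a sheaf supported at finitely many closed points by the multiplicative group. -/
theorem ext_Gm_of_supp (hu : ∀ n : ℕ, n ≠ 0 → IsUnit (n : Γ(X, ⊤))) (F : EtCoh.Ab X) (Z : Set X)
    (hZ : IsClosed Z) (hZU : Z ≠ Set.univ) (hsupp : EtPBC.supp F ⊆ Z) :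
    Subsingleton (Ext.{u + 1} F (EtCoh.Gm X) 0) ∧
      ∀ r : ℕ, Nonempty (Ext.{u + 1} F (EtCoh.Gm X) (r + 1) ≃+ (∀ v : ↥Z, Ext.{u + 1}
        ((EtCoh.pull (X.fromSpecResidueField (v : X))).obj F)
        (EtCoh.const (Spec (X.residueField (v : X))) ℤ) r)) := by
  have hη : genericPoint X ∉ Z := fun h => hZU (Set.eq_univ_of_forall fun x =>
    (genericPoint_specializes x).mem_closed hZ h)
  have hP : ∀ n : ℕ, Subsingleton (Ext.{u + 1} F (Divisor.P X) n) := fun n =>
    subsingleton_ext_push (Divisor.gen X) F _ (fun q hq => by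
        obtain ⟨q, rfl⟩ : ∃ i, q = i + 1 := ⟨q - 1, by omega⟩
        exact isZero_Rpush_gen_Gm hu (fun y hy => isDiscreteValuationRing_stalk' hreg hdim hy) q)
      (isZero_pull_of_supp _ F fun y hy => hη (hsupp (by
        haveI : Subsingleton ↥(Spec (X.presheaf.stalk (genericPoint X))) :=
          inferInstanceAs (Subsingleton (PrimeSpectrum X.functionField))
        have hy0 : (Divisor.gen X).base y = genericPoint X := by
          rw [Subsingleton.elim y (closedPoint (X.presheaf.stalk (genericPoint X)))]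
          exact Scheme.fromSpecStalk_closedPoint
        rwa [hy0] at hy))) n
  haveI hmono := Divisor.mono_φ (X := X)
  let S : ShortComplex (EtCoh.Ab X) := ShortComplex.mk (Divisor.φ X) (Divisor.proj X) (cokernel.condition _)
  haveI : Mono S.f := hmono
  haveI : Epi S.g := inferInstanceAs (Epi (cokernel.π (Divisor.φ X)))
  have hS : S.ShortExact :=
    { exact := ShortComplex.exact_of_g_is_cokernel _ (cokernelIsCokernel _) }
  refine ⟨subsingleton_of_forall_eq 0 fun x => ?_, fun r => ?_⟩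
  · obtain ⟨f, rfl⟩ := (Ext.mk₀_bijective _ _).2 x
    have h : Ext.mk₀ (f ≫ Divisor.φ X) = (Ext.mk₀ (0 : F ⟶ Divisor.P X)) := @Subsingleton.elim _ (hP 0) _ _
    have h' : f ≫ Divisor.φ X = 0 ≫ Divisor.φ X :=
      ((Ext.mk₀_bijective _ _).1 h).trans zero_comp.symm
    rw [(cancel_mono (Divisor.φ X)).1 h', Ext.mk₀_zero]
  · haveI : HasColimitsOfSize.{u, u} (EtCoh.Ab X) := hasColimitsOfSizeShrink.{u, u, u + 1, u + 1} _
    let c : Cofan (DivGen.Skyz X) := colimit.cocone _
    obtain ⟨e⟩ := DivGen.nonempty_cokernel_iso (DivGen.fact_of_regular X hreg) c (colimit.isColimit _)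
    obtain ⟨e'⟩ := nonempty_extEquiv_sum hreg hdim F Z hZ hη hsupp c (colimit.isColimit _) r
    let post : Ext.{u + 1} F S.X₃ r ≃+ Ext.{u + 1} F c.pt r :=
      { toFun := fun x => x.comp (Ext.mk₀ e.hom) (add_zero r)
        invFun := fun x => x.comp (Ext.mk₀ e.inv) (add_zero r)
        left_inv := fun x => by
          dsimp only
          rw [Ext.comp_assoc_of_third_deg_zero, Ext.mk₀_comp_mk₀, e.hom_inv_id]; exact Ext.comp_mk₀_id x
        right_inv := fun x => by
          dsimp only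
          rw [Ext.comp_assoc_of_third_deg_zero, Ext.mk₀_comp_mk₀, e.inv_hom_id]; exact Ext.comp_mk₀_id x
        map_add' := fun a b => Ext.add_comp _ _ _ _ }
    let δ : Ext.{u + 1} F S.X₃ r →+ Ext.{u + 1} F S.X₁ (r + 1) :=
      AddMonoidHom.mk' (fun x => x.comp hS.extClass rfl) fun a b => Ext.add_comp _ _ _ _
    have hδ : Function.Bijective δ := by
      refine ⟨(injective_iff_map_eq_zero _).2 fun x hx => ?_, fun y => ?_⟩
      · obtain ⟨z, rfl⟩ := Ext.covariant_sequence_exact₃ F hS x rfl hx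
        rw [@Subsingleton.elim _ (hP r) z 0, Ext.zero_comp]
      · exact Ext.covariant_sequence_exact₁ F hS y (@Subsingleton.elim _ (hP (r + 1)) _ _) rfl
    exact ⟨(AddEquiv.ofBijective δ hδ).symm.trans (post.trans e')⟩

end Main

end Groth.L28.RegCurve
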