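import Groth.Agent.L28.RegCurve.FieldExt
import Groth.Agent.L28.RegCurve.ExtGm
import Groth.Agent.L28.ExtCommute.Basic
import Groth.Agent.L28.FinitePush.Geom

/-! # Extensions of constructible sheaves by the multiplicative group on a regular curve -/

set_option autoImplicit false
set_option linter.style.haveILetI false
set_option linter.unusedSectionVars false
set_option backward.isDefEq.respectTransparency.types false

universe u

open CategoryTheory CategoryTheory.Limits AlgebraicGeometry Opposite IsLocalRing CategoryTheory.Abelian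

noncomputable section

namespace Groth.L28.RegCurve

open Groth.L27

variable {X : Scheme.{u}} [IsIntegral X] [AlgebraicGeometry.IsNoetherian X]

theorem charZero_functionField (hu : ∀ n : ℕ, n ≠ 0 → IsUnit (n : Γ(X, ⊤))) : CharZero X.functionField :=
  charZero_of_inj_zero fun n hn => by
    by_contra h
    have h1 := (hu n h).map (X.presheaf.germ ⊤ (genericPoint X) trivial).hom
    rw [map_natCast] at h1
    exact isUnit_iff_ne_zero.1 (show IsUnit (n : X.functionField) from h1) hn

theorem subsingleton_ext_Gm_of_four_le (hreg : ∀ x : X, IsRegularLocalRing (X.presheaf.stalk x))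
    (hdim : ∀ x : X, ringKrullDim (X.presheaf.stalk x) ≤ 1) (hu : ∀ n : ℕ, n ≠ 0 → IsUnit (n : Γ(X, ⊤)))
    (hη : EtCoh.CohDimLE (Spec (CommRingCat.of X.functionField)) 2)
    (hv : ∀ x : X, IsClosed ({x} : Set X) → EtCoh.CohDimLE (Spec (X.residueField x)) 1)
    (F : EtCoh.Ab X) (hF : EtPBC.IsConstructible F) (r : ℕ) (hr : 4 ≤ r) :
    Subsingleton (Ext.{u + 1} F (EtCoh.Gm X) r) := by
  haveI := charZero_functionField hu
  haveI hmono := Divisor.mono_φ (X := X)
  let S : ShortComplex (EtCoh.Ab X) := ShortComplex.mk (Divisor.φ X) (Divisor.proj X) (cokernel.condition _)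
  haveI : Mono S.f := hmono
  haveI : Epi S.g := inferInstanceAs (Epi (cokernel.π (Divisor.φ X)))
  have hS : S.ShortExact :=
    { exact := ShortComplex.exact_of_g_is_cokernel _ (cokernelIsCokernel _) }
  obtain ⟨r, rfl⟩ : ∃ s, r = s + 1 := ⟨r - 1, by omega⟩
  -- the generic part
  have hP : Subsingleton (Ext.{u + 1} F (Divisor.P X) (r + 1)) := by
    obtain ⟨e⟩ := nonempty_extEquiv (Divisor.gen X) F (EtCoh.Gm (Spec (X.presheaf.stalk (genericPoint X))))
      (fun q hq => by
        obtain ⟨q, rfl⟩ : ∃ i, q = i + 1 := ⟨q - 1, by omega⟩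
        exact isZero_Rpush_gen_Gm hu (fun y hy => isDiscreteValuationRing_stalk' hreg hdim hy) q) (r + 1)
    haveI : Subsingleton (Ext.{u + 1} ((EtCoh.pull (Divisor.gen X)).obj F)
        (EtCoh.Gm (Spec (X.presheaf.stalk (genericPoint X)))) (r + 1)) :=
      FieldExt.subsingleton_ext_Gm X.functionField hη _ (ExtShriek.isConstructible_pull (Divisor.gen X) hF) (r + 1) hr
    exact e.toEquiv.injective.subsingleton
  -- the divisor part
  have hQ : Subsingleton (Ext.{u + 1} F S.X₃ r) := by
    haveI : HasColimitsOfSize.{u, u} (EtCoh.Ab X) := hasColimitsOfSizeShrink.{u, u, u + 1, u + 1} _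
    let c : Cofan (DivGen.Skyz X) := colimit.cocone _
    obtain ⟨e⟩ := DivGen.nonempty_cokernel_iso (DivGen.fact_of_regular X hreg) c (colimit.isColimit _)
    refine FieldExt.subsingleton_ext_right e (ExtCommute.subsingleton_ext_coprod _ F hF r (fun x => ?_) c
      (colimit.isColimit _))
    have hcl := isClosed_of_ne_genericPoint hdim (ne_genericPoint_of_pt hdim x)
    haveI : IsClosedImmersion (X.fromSpecResidueField x.1) := isClosed_singleton_iff_isClosedImmersion.1 hcl
    obtain ⟨e'⟩ := nonempty_extEquiv (X.fromSpecResidueField x.1) F (EtCoh.const (Spec (X.residueField x.1)) ℤ)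
      (fun q hq => EtSite.isZero_Rpush_of_propB _ (EtSite.propB_of_isIntegralHom _) _ q hq) r
    haveI : Subsingleton (Ext.{u + 1} ((EtCoh.pull (X.fromSpecResidueField x.1)).obj F)
        (EtCoh.const (Spec (X.residueField x.1)) ℤ) r) :=
      FieldExt.subsingleton_ext_int (X.residueField x.1) (hv x.1 hcl) _
        (ExtShriek.isConstructible_pull (X.fromSpecResidueField x.1) hF) r (by omega)
    exact e'.toEquiv.injective.subsingleton
  refine subsingleton_of_forall_eq 0 fun x => ?_
  obtain ⟨y, hy⟩ := Ext.covariant_sequence_exact₁ F hS (show Ext.{u + 1} F S.X₁ (r + 1) from x)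
    (@Subsingleton.elim _ hP _ _) rfl
  rw [@Subsingleton.elim _ hQ y 0, Ext.zero_comp] at hy
  exact hy.symm

end Groth.L28.RegCurve
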