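import Groth.Agent.L28.CdLower.Gysin
import Groth.Agent.L28.RegCurve.Cd
import Groth.Agent.L28.CurveCd.Torsion
import Groth.Agent.L28.LocCoh.Shift
import Groth.Agent.L27.AffineEfface.Effacement
import Groth.Agent.L27.Colim.RpushTorsion

/-! # The higher direct images of the multiplicative group of the generic point -/

set_option autoImplicit false
set_option linter.style.haveILetI false
set_option linter.unusedSectionVars false
set_option backward.isDefEq.respectTransparency.types false

universe u

open CategoryTheory CategoryTheory.Limits AlgebraicGeometry Opposite IsLocalRing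

noncomputable section

namespace Groth.L28.RegCurve

open Groth.L27

variable {X : Scheme.{u}}

/-- The cokernel of the direct image of an epimorphism from the spectrum of a field is torsion. -/
theorem isTorsion_cokernel_push_field {K : Type u} [Field K] (j : Spec (CommRingCat.of K) ⟶ X) [IsAffineHom j]
    {E : ShortComplex (EtCoh.Ab (Spec (CommRingCat.of K)))} (hE : E.ShortExact) :
    EtCoh.IsTorsion (cokernel ((EtCoh.push j).map E.g)) := by
  intro U s u
  let ψ := (EtCoh.push j).map E.g
  haveI : Sheaf.IsLocallySurjective (cokernel.π ψ) :=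
    (Sheaf.isLocallySurjective_iff_epi' AddCommGrpCat.{u + 1} (cokernel.π ψ)).2 inferInstance
  obtain ⟨V, g, v, hg, hv⟩ := (Groth.L27.EtSite.mem_topology_iff _).1
    (Presheaf.imageSieve_mem X.smallEtaleTopology (cokernel.π ψ).hom s) u
  obtain ⟨t, ht⟩ := hg
  let hV : V.left ⟶ X := V.hom
  haveI : AlgebraicGeometry.Etale hV := V.prop
  obtain ⟨_, ⟨(O : V.left.Opens), hO, rfl⟩, hvO, -⟩ :=
    V.left.isBasis_affineOpens.exists_subset_of_mem_open (Set.mem_univ v) isOpen_univ
  let V' : X.Etale := Scheme.Etale.mk (O.ι ≫ hV)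
  let a : V' ⟶ V := MorphismProperty.Over.homMk O.ι rfl
  let W := (EtCoh.bc j).obj V'
  let v' : V'.left ⟶ X := V'.hom
  have hfst : IsAffineHom (pullback.fst v' j) :=
    MorphismProperty.pullback_fst (P := @IsAffineHom) v' j inferInstance
  haveI : IsAffine W.left := @isAffine_of_isAffineHom _ _ (pullback.fst v' j) hfst hO
  obtain ⟨n, hn, b, hb⟩ := CurveCd.exists_nsmul_lift_field hE W (((EtCoh.push j).obj E.X₃).obj.map a.op t)
  refine ⟨V', a ≫ g, ⟨⟨v, hvO⟩, ?_⟩, isOfFinAddOrder_iff_nsmul_eq_zero.2 ⟨n, hn, ?_⟩⟩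
  · exact (Scheme.Hom.comp_apply _ _ _).trans hv
  · rw [op_comp, Functor.map_comp_apply]
    refine (congrArg (fun r => n • (cokernel ψ).obj.map a.op r) ht.symm).trans ?_
    refine (congrArg (n • ·) (NatTrans.naturality_apply (cokernel.π ψ).hom a.op t).symm).trans ?_
    refine (map_nsmul ((cokernel.π ψ).hom.app (op V')).hom n _).symm.trans ?_
    have hb' : ψ.hom.app (op V') b = n • ((EtCoh.push j).obj E.X₃).obj.map a.op t := hb
    rw [← hb']
    exact ConcreteCategory.congr_hom (congrArg (fun k => k.hom.app (op V')) (cokernel.condition ψ)) b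

/-- Higher direct images from the spectrum of a field are torsion. -/
theorem isTorsion_Rpush_field {K : Type u} [Field K] (j : Spec (CommRingCat.of K) ⟶ X) [IsAffineHom j] :
    ∀ (q : ℕ) (G : EtCoh.Ab (Spec (CommRingCat.of K))), EtCoh.IsTorsion ((EtCoh.Rpush j (q + 1)).obj G) := by
  haveI : PreservesLimitsOfSize.{0, 0} (EtCoh.push j) := (EtCoh.pullPushAdj j).rightAdjoint_preservesLimits
  haveI : PreservesFiniteLimits (EtCoh.push j) := PreservesLimitsOfSize.preservesFiniteLimits _
  intro q
  induction q with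
  | zero =>
    intro G
    obtain ⟨T, hT, hI, rfl⟩ := Supp.exists_presentation G
    obtain ⟨e⟩ := LocCoh.nonempty_cokernel_zero_iso (EtCoh.push j) hT
    exact Colim.isTorsion_of_iso e (isTorsion_cokernel_push_field j hT)
  | succ q ih =>
    intro G
    obtain ⟨T, hT, hI, rfl⟩ := Supp.exists_presentation G
    obtain ⟨e⟩ := LocCoh.nonempty_succ_iso (EtCoh.push j) hT q
    exact Colim.isTorsion_of_iso e (ih T.X₃)

theorem isAffineHom_gen [AlgebraicGeometry.IsIntegral X] : IsAffineHom (Divisor.gen X) := by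
  let η := genericPoint X
  haveI : IsAffineHom (X.fromSpecResidueField η) := CurveCd.isAffineHom_fromSpecResidueField η
  haveI : IsIso (X.residue η) := (ConcreteCategory.isIso_iff_bijective _).2
    ⟨(X.residue η).hom.injective, X.residue_surjective η⟩
  have hi : inv (Spec.map (X.residue η)) ≫ X.fromSpecResidueField η = Divisor.gen X := by
    simp [Scheme.fromSpecResidueField, Divisor.gen, η]
  rw [← hi]
  infer_instance

/-- `R^q gen_* Gm = 0` for `q ≥ 1` on a regular curve of characteristic zero. -/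
theorem isZero_Rpush_gen_Gm [AlgebraicGeometry.IsIntegral X] [AlgebraicGeometry.IsNoetherian X]
    (hu : ∀ n : ℕ, n ≠ 0 → IsUnit (n : Γ(X, ⊤)))
    (hdvr : ∀ y : X, y ≠ genericPoint X → IsDiscreteValuationRing (X.presheaf.stalk y)) (q : ℕ) :
    IsZero ((EtCoh.Rpush (Divisor.gen X) (q + 1)).obj (EtCoh.Gm (Spec (X.presheaf.stalk (genericPoint X))))) := by
  let j : Spec (CommRingCat.of X.functionField) ⟶ X := Divisor.gen X
  haveI hj : IsAffineHom j := isAffineHom_gen
  haveI : IsAffineHom (Divisor.gen X) := hj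
  match q with
  | 0 => exact CdLower.isZero_Rpush_one_Gm (K := X.functionField) j fun W hW => hW.preimage j
  | q + 1 =>
    refine (EtSite.isZero_iff_stalks _).2 fun Ω _ _ ξ => ?_
    let Rq := EtCoh.Rpush (Divisor.gen X) (q + 1 + 1)
    let S : EtCoh.Ab X := Rq.obj (EtCoh.Gm (Spec (X.presheaf.stalk (genericPoint X))))
    suffices hzero : ∀ m : ℕ, 0 < m → ∀ t : (EtCoh.stalk ξ).obj S, m • t = 0 → t = 0 by
      refine @AddCommGrpCat.isZero_of_subsingleton _ (subsingleton_of_forall_eq 0 fun t => ?_)
      obtain ⟨m, hm, hm0⟩ := EtTor.isLTorsion_iff_stalks.1 (AffineEfface.isLTorsion_univ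
        (isTorsion_Rpush_field j (q + 1) (EtCoh.Gm (Spec (CommRingCat.of X.functionField))))) Ω ξ t
      exact hzero m hm.1 t hm0
    intro m
    induction m using Nat.recOnMul with
    | zero => exact fun h => absurd h (lt_irrefl 0)
    | one => exact fun _ t ht => by rwa [one_nsmul] at ht
    | mul a b ha hb =>
      intro h t ht
      rw [mul_nsmul'] at ht
      exact hb (Nat.pos_of_mul_pos_left h) t (ha (Nat.pos_of_mul_pos_right h) _ ht)
    | prime ℓ hℓ =>
      intro _
      have huK : IsUnit (ℓ : Γ(Spec (X.presheaf.stalk (genericPoint X)), ⊤)) := by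
        simpa using (hu ℓ hℓ.ne_zero).map (Divisor.gen X).appTop.hom
      have hS := EtSix.kummerShortExact (GmTorsion.epi_powMap huK)
      have hμ : IsZero (Rq.obj (EtSix.kummerSC (Spec (X.presheaf.stalk (genericPoint X))) ℓ).X₁) :=
        CdLower.isZero_Rpush_gen hℓ (hu ℓ hℓ.ne_zero) hdvr _
          (DerBC.Killed.isLTorsion ⟨ℓ, ⟨hℓ.pos, fun p hp h => (Nat.prime_dvd_prime_iff_eq hp hℓ).1 h⟩,
            CdLower.nsmul_id_mu _ ℓ⟩) (q + 1 + 1) (by omega)
      letI := HasDerivedCategory.standard (EtCoh.Ab (Spec (X.presheaf.stalk (genericPoint X))))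
      haveI : PreservesLimitsOfSize.{0, 0} (EtCoh.push (Divisor.gen X)) :=
        (EtCoh.pullPushAdj (Divisor.gen X)).rightAdjoint_preservesLimits
      haveI : (EtCoh.push (Divisor.gen X)).Additive := Functor.additive_of_preserves_binary_products _
      haveI hadd : Rq.Additive := L00.RDerLES.additive (EtCoh.push (Divisor.gen X)) (q + 1 + 1)
      have hex := L00.RDerLES.exact₂ (EtCoh.push (Divisor.gen X)) hS (q + 1 + 1)
      have hmono : Mono (Rq.map (ℓ • 𝟙 (EtCoh.Gm (Spec (X.presheaf.stalk (genericPoint X)))))) :=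
        hex.mono_g (hμ.eq_of_src _ _)
      rw [Functor.map_nsmul, CategoryTheory.Functor.map_id] at hmono
      intro t ht
      haveI : (EtCoh.stalk ξ).Additive := Functor.additive_of_preserves_binary_products _
      refine (EtSite.mono_iff_stalks (ℓ • 𝟙 S)).1 hmono Ω ξ ?_
      rw [map_zero, Functor.map_nsmul, CategoryTheory.Functor.map_id]
      let ev : ((EtCoh.stalk ξ).obj S ⟶ (EtCoh.stalk ξ).obj S) →+ (EtCoh.stalk ξ).obj S :=
        AddMonoidHom.mk' (fun k => k t) fun _ _ => rfl
      exact (map_nsmul ev ℓ (𝟙 _)).trans ht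

end Groth.L28.RegCurve
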