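import Groth.Agent.L28.RegCurve.Cd
import Groth.Agent.L22.AffineDim
import Groth.Prelude.Def_EGA4b
import Mathlib.RingTheory.DedekindDomain.IntegralClosure
import Mathlib.RingTheory.Ideal.KrullsHeightTheorem
import Mathlib.AlgebraicGeometry.FunctionField

/-! # The punctured spectrum of a normal two-dimensional ring -/

set_option autoImplicit false
set_option linter.style.haveILetI false
set_option linter.unusedSectionVars false
set_option backward.isDefEq.respectTransparency.types false

universe u

open CategoryTheory CategoryTheory.Limits AlgebraicGeometry Opposite IsLocalRing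

noncomputable section

namespace Groth.L28.RegCurve

/-- A noetherian integrally closed local domain of dimension at most one is regular. -/
theorem isRegularLocalRing_of_normal (O : Type u) [CommRing O] [IsDomain O] [IsLocalRing O] [IsNoetherianRing O]
    [IsIntegrallyClosed O] (h : ringKrullDim O ≤ 1) : IsRegularLocalRing O := by
  by_cases hF : IsField O
  · refine IsRegularLocalRing.of_spanFinrank_maximalIdeal_le (R := O) ?_
    rw [IsLocalRing.isField_iff_maximalIdeal_eq.1 hF, Submodule.spanFinrank_bot, Nat.cast_zero]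
    exact ringKrullDim_nonneg_of_nontrivial
  · haveI : Ring.KrullDimLE 1 O := Ring.krullDimLE_iff.2 h
    haveI : Ring.DimensionLEOne O := ⟨fun {p} hne hp => hp.isMaximal_of_ne_bot hne⟩
    haveI : IsDedekindRing O := { }
    haveI : IsDedekindDomain O := { }
    haveI : IsDiscreteValuationRing O := ((IsDiscreteValuationRing.TFAE O hF).out 2 0 rfl rfl).mp inferInstance
    infer_instance

theorem height_le_one {B : Type u} [CommRing B] [IsNoetherianRing B] (hdim : ringKrullDim B ≤ 2) (p : Ideal B) [p.IsPrime]
    (hp : ¬ p.IsMaximal) : p.height ≤ 1 := by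
  obtain ⟨M, hM, hpM⟩ := Ideal.exists_le_maximal p (Ideal.IsPrime.ne_top inferInstance)
  have hlt : p < M := lt_of_le_of_ne hpM fun e => hp (e ▸ hM)
  haveI := hM.isPrime
  haveI : M.FiniteHeight := inferInstance
  have h1 : p.height + 1 ≤ 2 := by
    refine le_trans ?_ (WithBot.coe_le_coe.1 ((Ideal.height_le_ringKrullDim_of_ne_top hM.ne_top).trans hdim))
    haveI : p.FiniteHeight := inferInstance
    exact Order.add_one_le_of_lt (Ideal.height_strict_mono_of_isPrime hlt)
  exact (ENat.add_le_add_iff_right ENat.one_ne_top).1 (h1.trans (by norm_num))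

/-- What is needed about the open subscheme. -/
theorem setup (k : Type u) [Field k] [CharZero k]
    (R₀ : Type u) [CommRing R₀] [IsDomain R₀] [Algebra k R₀]
    [IsIntegrallyClosed R₀] (hN : IsNoetherianRing R₀) (hdim : ringKrullDim R₀ = 2)
    (K : Type u) [Field K] [Algebra R₀ K] [Algebra (FractionRing R₀) K]
    [IsScalarTower R₀ (FractionRing R₀) K] [FiniteDimensional (FractionRing R₀) K]
    (U : (Spec (CommRingCat.of ↥(integralClosure R₀ K))).Opens)
    (hU : ∀ x : ↥(Spec (CommRingCat.of ↥(integralClosure R₀ K))), x ∈ U →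
      ¬ IsClosed ({x} : Set ↥(Spec (CommRingCat.of ↥(integralClosure R₀ K)))))
    (hne : Nonempty ↥(↑U : Scheme.{u})) :
    AlgebraicGeometry.IsIntegral (U : Scheme.{u}) ∧ AlgebraicGeometry.IsNoetherian (U : Scheme.{u}) ∧
      (∀ x : (U : Scheme.{u}), IsRegularLocalRing ((U : Scheme.{u}).presheaf.stalk x)) ∧
      (∀ x : (U : Scheme.{u}), ringKrullDim ((U : Scheme.{u}).presheaf.stalk x) ≤ 1) ∧
      (∀ n : ℕ, n ≠ 0 → IsUnit (n : Γ((U : Scheme.{u}), ⊤))) ∧
      ∀ [IrreducibleSpace ↥(U : Scheme.{u})],
        ∃ f : Spec ((U : Scheme.{u}).residueField (genericPoint ↥(U : Scheme.{u}))) ⟶ Spec (CommRingCat.of K), IsIso f := by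
  haveI := hN
  haveI : CharZero R₀ := charZero_of_injective_algebraMap (algebraMap k R₀).injective
  haveI : CharZero (FractionRing R₀) :=
    charZero_of_injective_algebraMap (IsFractionRing.injective R₀ (FractionRing R₀))
  haveI : Algebra.IsSeparable (FractionRing R₀) K := inferInstance
  let B := ↥(integralClosure R₀ K)
  haveI : FaithfulSMul R₀ K := (faithfulSMul_iff_algebraMap_injective R₀ K).2 (by
    rw [IsScalarTower.algebraMap_eq R₀ (FractionRing R₀) K]
    exact (algebraMap (FractionRing R₀) K).injective.comp (IsFractionRing.injective R₀ _))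
  haveI : IsIntegrallyClosed B := integralClosure.isIntegrallyClosedOfFiniteExtension (FractionRing R₀)
  haveI : IsFractionRing B K := integralClosure.isFractionRing_of_finite_extension (FractionRing R₀) K
  haveI : IsNoetherianRing B := IsIntegralClosure.isNoetherianRing R₀ (FractionRing R₀) K B
  have hinj : Function.Injective (algebraMap R₀ B) := fun a b h =>
    (FaithfulSMul.algebraMap_injective R₀ K) (congrArg Subtype.val h)
  haveI : Algebra.IsIntegral R₀ B := inferInstance
  have hdimB : ringKrullDim B ≤ 2 := ((Groth.L22.AffineDim.ringKrullDim_eq_of_isIntegral hinj).trans hdim).le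
  let X := Spec (CommRingCat.of B)
  haveI : AlgebraicGeometry.IsNoetherian X := inferInstance
  haveI hint : AlgebraicGeometry.IsIntegral (U : Scheme.{u}) := isIntegral_of_isOpenImmersion U.ι
  haveI : IsLocallyNoetherian (U : Scheme.{u}) := isLocallyNoetherian_of_isOpenImmersion U.ι
  haveI : CompactSpace (U : Scheme.{u}) :=
    isCompact_iff_compactSpace.1 (TopologicalSpace.NoetherianSpace.isCompact (U : Set X))
  have hht : ∀ x : (U : Scheme.{u}), ∃ (p : Ideal B) (_ : p.IsPrime), p.height ≤ 1 ∧
      Nonempty (Localization.AtPrime p ≃+* (U : Scheme.{u}).presheaf.stalk x) := by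
    intro x
    let y : PrimeSpectrum B := U.ι x
    refine ⟨y.asIdeal, y.2, height_le_one hdimB y.asIdeal fun hmax => hU (U.ι x) x.2
      ((PrimeSpectrum.isClosed_singleton_iff_isMaximal y).2 hmax), ⟨?_⟩⟩
    haveI : IsLocalization.AtPrime ((Spec.structureSheaf B).presheaf.stalk y) y.asIdeal := inferInstance
    exact (IsLocalization.algEquiv y.asIdeal.primeCompl (Localization.AtPrime y.asIdeal)
      ((Spec.structureSheaf B).presheaf.stalk y)).toRingEquiv.trans
      (asIso (U.ι.stalkMap x)).commRingCatIsoToRingEquiv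
  refine ⟨hint, {}, fun x => ?_, fun x => ?_, fun n hn => ?_, fun {_} => ?_⟩
  · obtain ⟨p, _, hp, ⟨e⟩⟩ := hht x
    haveI : IsIntegrallyClosed (Localization.AtPrime p) :=
      isIntegrallyClosed_of_isLocalization (R := B) (S := Localization.AtPrime p) p.primeCompl
        p.primeCompl_le_nonZeroDivisors
    haveI : IsRegularLocalRing (Localization.AtPrime p) := isRegularLocalRing_of_normal _ (by
      rw [IsLocalization.AtPrime.ringKrullDim_eq_height p (Localization.AtPrime p)]
      exact WithBot.coe_le_coe.2 hp)
    exact IsRegularLocalRing.of_ringEquiv e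
  · obtain ⟨p, _, hp, ⟨e⟩⟩ := hht x
    rw [← ringKrullDim_eq_of_ringEquiv e, IsLocalization.AtPrime.ringKrullDim_eq_height p (Localization.AtPrime p)]
    exact WithBot.coe_le_coe.2 hp
  · have h : IsUnit (n : B) := by
      simpa using ((isUnit_iff_ne_zero.2 (Nat.cast_ne_zero.2 hn : (n : k) ≠ 0)).map (algebraMap k R₀)).map
        (algebraMap R₀ B)
    simpa using (h.map (Scheme.ΓSpecIso (CommRingCat.of B)).inv.hom).map U.ι.appTop.hom
  · haveI : IsDomain (CommRingCat.of B) := inferInstanceAs (IsDomain B)
    let η := genericPoint ↥(U : Scheme.{u})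
    have hη : U.ι η = genericPoint X := genericPoint_eq_of_isOpenImmersion U.ι
    haveI : IsIso ((U : Scheme.{u}).residue η) := (ConcreteCategory.isIso_iff_bijective _).2
      ⟨((U : Scheme.{u}).residue η).hom.injective, Scheme.residue_surjective _ η⟩
    let e₁ : (U : Scheme.{u}).residueField η ≅ X.presheaf.stalk (genericPoint X) :=
      (asIso ((U : Scheme.{u}).residue η)).symm ≪≫ (asIso (U.ι.stalkMap η)).symm ≪≫
        X.presheaf.stalkCongr (Inseparable.of_eq hη)
    letI : Algebra B X.functionField := instAlgebraCarrierFunctionFieldSpec (CommRingCat.of B)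
    haveI : IsFractionRing B X.functionField := functionField_isFractionRing_of_affine (CommRingCat.of B)
    let e₂ : X.functionField ≅ CommRingCat.of K :=
      (IsLocalization.algEquiv (nonZeroDivisors B) X.functionField K).toRingEquiv.toCommRingCatIso
    let f := Spec.map (e₁ ≪≫ e₂).inv
    exact ⟨f, inferInstanceAs (IsIso (Spec.map (e₁ ≪≫ e₂).inv))⟩

end Groth.L28.RegCurve
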